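import Mathlib.NumberTheory.Zsqrtd.GaussianInt
import Mathlib.RingTheory.PrincipalIdealDomain
import Mathlib.Tactic

/-!
# Arithmetic for transitive linear groups with two projective characters

Sums of two squares, Lebesgue's equation `x ^ k = s ^ 2 + 1`, and the consequence that
`p ^ (4 k) - 1` is a prime divisor of `p ^ (2 k) + 1` times a square only for `k = 1`.
-/

set_option autoImplicit false

namespace CfsgLib.HeightZeroThree

/-- The odd part of a sum of two squares is congruent to one modulo four. -/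
theorem odd_part_mod_four : ∀ (a b x y : ℕ), b % 2 = 1 → 2 ^ a * b = x ^ 2 + y ^ 2 → b % 4 = 1 := by
  intro a
  induction a with
  | zero =>
    intro b x y hb h
    rw [pow_zero, one_mul] at h
    rcases Nat.even_or_odd x with ⟨m, rfl⟩ | ⟨m, rfl⟩ <;>
      rcases Nat.even_or_odd y with ⟨l, rfl⟩ | ⟨l, rfl⟩ <;> ring_nf at h <;> omega
  | succ a ih =>
    intro b x y hb h
    have hab : 2 ^ (a + 1) * b = 2 * (2 ^ a * b) := by ring
    have hxy : (x + y) % 2 = 0 := by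
      rw [hab] at h
      rcases Nat.even_or_odd x with ⟨m, rfl⟩ | ⟨m, rfl⟩ <;>
        rcases Nat.even_or_odd y with ⟨l, rfl⟩ | ⟨l, rfl⟩ <;> ring_nf at h <;> omega
    rcases Nat.le_total x y with hle | hle
    · obtain ⟨m, hm⟩ : ∃ m, y = x + 2 * m := ⟨(y - x) / 2, by omega⟩
      refine ih b (x + m) m hb (Nat.eq_of_mul_eq_mul_left (by norm_num : 0 < 2) ?_)
      rw [← hab, h, hm]; ring
    · obtain ⟨m, hm⟩ : ∃ m, x = y + 2 * m := ⟨(x - y) / 2, by omega⟩
      refine ih b (y + m) m hb (Nat.eq_of_mul_eq_mul_left (by norm_num : 0 < 2) ?_)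
      rw [← hab, h, hm]; ring

/-- An odd prime which is a sum of two squares, up to a square factor, is one modulo four. -/
theorem sum_sq_mod_four {r u w : ℕ} (hr : r % 2 = 1) (h : r = u ^ 2 + w ^ 2) : r % 4 = 1 :=
  odd_part_mod_four 0 r u w hr (by rw [pow_zero, one_mul, h])

/-- `z` is `1 + 2 ^ f a ^ 2 o + 2 ^ (f + 1) a o' i`. -/
def Coord (f : ℕ) (a : ℤ) (z : GaussianInt) (o o' : ℤ) : Prop :=
  z.re = 1 + 2 ^ f * a ^ 2 * o ∧ z.im = 2 ^ (f + 1) * a * o'

theorem coord_mul {f : ℕ} {c : ℤ} {z z' : GaussianInt} {o o' u u' : ℤ}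
    (h : Coord f (2 * c) z o o') (h' : Coord f (2 * c) z' u u') :
    ∃ v v' d d' : ℤ, Coord f (2 * c) (z * z') v v' ∧ v = o + u + 2 * d ∧ v' = o' + u' + 2 * d' := by
  refine ⟨o + u + 2 * (2 ^ (f + 1) * c ^ 2 * o * u - 2 ^ (f + 1) * o' * u'),
    o' + u' + 2 * (2 ^ (f + 1) * c ^ 2 * (o * u' + o' * u)),
    2 ^ (f + 1) * c ^ 2 * o * u - 2 ^ (f + 1) * o' * u',
    2 ^ (f + 1) * c ^ 2 * (o * u' + o' * u), ⟨?_, ?_⟩, rfl, rfl⟩
  · simp only [Zsqrtd.re_mul, h.1, h.2, h'.1, h'.2]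
    ring
  · simp only [Zsqrtd.im_mul, h.1, h.2, h'.1, h'.2]
    ring

theorem coord_sq_iter (c : ℤ) :
    ∀ f : ℕ, ∃ o o' : ℤ, Odd o ∧ Odd o' ∧
      Coord f (2 * c) ((⟨1, 2 * c⟩ : GaussianInt) ^ (2 ^ (f + 1))) o o' := by
  intro f
  induction f with
  | zero =>
    refine ⟨-1, 1, by decide, by decide, ?_, ?_⟩ <;> simp [pow_two, Zsqrtd.re_mul, Zsqrtd.im_mul] <;> ring
  | succ f ih =>
    obtain ⟨o, o', ho, ho', h₁, h₂⟩ := ih
    refine ⟨o + 2 * (2 ^ f * c ^ 2 * o ^ 2 - 2 ^ f * o' ^ 2),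
      o' * (1 + 2 * (2 ^ (f + 1) * c ^ 2 * o)), ho.add_even (even_two_mul _),
      ho'.mul (odd_one.add_even (even_two_mul _)), ?_, ?_⟩
    all_goals
      rw [pow_succ 2 (f + 1), pow_mul, pow_two]
      simp only [Zsqrtd.re_mul, Zsqrtd.im_mul, h₁, h₂]
      ring

/-- The real part of an odd power of `1 + a i` is not a unit, for even nonzero `a`. -/
theorem re_pow_ne (c : ℤ) (hc : c ≠ 0) {k : ℕ} (hk : Odd k) (hk1 : 1 < k) :
    ((⟨1, 2 * c⟩ : GaussianInt) ^ k).re ≠ 1 ∧ ((⟨1, 2 * c⟩ : GaussianInt) ^ k).re ≠ -1 := by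
  obtain ⟨e, m, hm, hem⟩ := Nat.exists_eq_two_pow_mul_odd (n := k - 1) (by omega)
  obtain ⟨f, rfl⟩ : ∃ f, e = f + 1 := by
    refine ⟨e - 1, ?_⟩
    rcases Nat.eq_zero_or_pos e with rfl | h
    · obtain ⟨a, ha⟩ := hk
      obtain ⟨b, hb⟩ := hm
      rw [pow_zero, one_mul] at hem
      omega
    · omega
  set w : GaussianInt := ⟨1, 2 * c⟩ with hw
  obtain ⟨o, o', ho, ho', h⟩ := coord_sq_iter c f
  rw [← hw] at h
  have hpow : ∀ j : ℕ, ∃ v v' : ℤ, Odd v ∧ Odd v' ∧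
      Coord f (2 * c) ((w ^ 2 ^ (f + 1)) ^ (2 * j + 1)) v v' := by
    intro j
    induction j with
    | zero => exact ⟨o, o', ho, ho', by simpa using h⟩
    | succ j ih =>
      obtain ⟨v, v', hv, hv', hvc⟩ := ih
      obtain ⟨t, t', d, d', htc, ht, ht'⟩ := coord_mul hvc h
      obtain ⟨s, s', g, g', hsc, hs, hs'⟩ := coord_mul htc h
      refine ⟨s, s', ?_, ?_, ?_⟩
      · rw [hs, ht, show v + o + 2 * d + o + 2 * g = v + 2 * (o + d + g) by ring]
        exact hv.add_even (even_two_mul _)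
      · rw [hs', ht', show v' + o' + 2 * d' + o' + 2 * g' = v' + 2 * (o' + d' + g') by ring]
        exact hv'.add_even (even_two_mul _)
      · rw [show 2 * (j + 1) + 1 = (2 * j + 1) + 1 + 1 by ring, pow_succ, pow_succ]
        exact hsc
  obtain ⟨j, rfl⟩ := hm
  obtain ⟨v, v', hv, -, h₁, h₂⟩ := hpow j
  rw [← pow_mul, ← hem] at h₁ h₂
  have hre : (w ^ k).re = 1 + 2 ^ f * (2 * c) ^ 2 * (v - 2 * v') := by
    rw [show k = (k - 1) + 1 by omega, pow_succ, Zsqrtd.re_mul, h₁, h₂, hw]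
    ring
  have hodd : v - 2 * v' ≠ 0 := by
    obtain ⟨a, ha⟩ := hv
    omega
  rw [hre]
  constructor
  · intro h0
    have h4 : 2 ^ f * (2 * c) ^ 2 * (v - 2 * v') = 0 := by linarith
    exact mul_ne_zero (mul_ne_zero (by positivity) (by positivity)) hodd h4
  · intro h0
    have h4 : (4 : ℤ) ∣ 2 ^ f * (2 * c) ^ 2 * (v - 2 * v') :=
      ⟨2 ^ f * c ^ 2 * (v - 2 * v'), by ring⟩
    rw [show 2 ^ f * (2 * c) ^ 2 * (v - 2 * v') = (-2 : ℤ) by linarith] at h4
    exact absurd h4 (by decide)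

theorem im_dvd_im_pow (z : GaussianInt) (n : ℕ) : z.im ∣ (z ^ n).im := by
  induction n with
  | zero => simp
  | succ n ih =>
    rw [pow_succ, Zsqrtd.im_mul]
    exact dvd_add (dvd_mul_left _ _) (dvd_mul_of_dvd_left ih _)

theorem pow_odd_imag (b : ℤ) (hb : b = 1 ∨ b = -1) (j : ℕ) :
    ∃ e : ℤ, (e = 1 ∨ e = -1) ∧ (⟨0, b⟩ : GaussianInt) ^ (2 * j + 1) = ⟨0, e⟩ := by
  induction j with
  | zero => exact ⟨b, hb, by simp⟩
  | succ j ih =>
    obtain ⟨e, he, hje⟩ := ih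
    refine ⟨-e, by omega, ?_⟩
    rw [show 2 * (j + 1) + 1 = (2 * j + 1) + 1 + 1 by ring, pow_succ, pow_succ, hje]
    rcases hb with rfl | rfl <;> ext <;> simp

/-- Lebesgue: a proper odd power is not one more than a nonzero square. -/
theorem lebesgue {x s k : ℕ} (hk : Odd k) (hk1 : 1 < k) (h : x ^ k = s ^ 2 + 1) : s = 0 := by
  obtain ⟨m, rfl⟩ : ∃ m, s = 2 * m := by
    rcases Nat.even_or_odd s with ⟨m, hm⟩ | ⟨m, rfl⟩
    · exact ⟨m, by omega⟩
    · exfalso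
      rcases Nat.even_or_odd x with ⟨l, rfl⟩ | hx
      · obtain ⟨c, hc⟩ : 4 ∣ (l + l) ^ k :=
          dvd_trans ⟨l ^ 2, by ring⟩ (pow_dvd_pow (l + l) (show 2 ≤ k by omega))
        rw [h] at hc
        ring_nf at hc
        omega
      · obtain ⟨c, hc⟩ := hx.pow (n := k)
        rw [h] at hc
        ring_nf at hc
        omega
  set α : GaussianInt := ⟨2 * m, 1⟩ with hα
  set β : GaussianInt := ⟨2 * m, -1⟩ with hβ
  have hprod : α * β = (x : GaussianInt) ^ k := by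
    rw [← Nat.cast_pow, h]
    push_cast
    ext <;> simp [hα, hβ, pow_two, Zsqrtd.re_mul, Zsqrtd.im_mul] <;> ring
  have hcop : IsCoprime α β := by
    refine ⟨⟨2 * m, -1⟩ + ⟨0, 2 * m ^ 2⟩, ⟨0, -(2 * m ^ 2)⟩, ?_⟩
    ext <;> simp [hα, hβ, Zsqrtd.re_mul, Zsqrtd.im_mul] <;> ring
  obtain ⟨d, u, hu⟩ := exists_associated_pow_of_mul_eq_pow' hcop hprod
  -- every unit is an odd power
  obtain ⟨z, hz⟩ : ∃ z : GaussianInt, z ^ k = α := by
    have hnorm : ((u : GaussianInt).re) ^ 2 + ((u : GaussianInt).im) ^ 2 = 1 := by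
      have h1 := (Zsqrtd.norm_eq_one_iff' (by norm_num) (u : GaussianInt)).2 u.isUnit
      rw [Zsqrtd.norm_def] at h1
      linarith
    have hu4 : (u : GaussianInt) ^ 4 = 1 := by
      generalize hU : (u : GaussianInt) = U at hnorm
      obtain ⟨a, b⟩ := U
      dsimp only at hnorm
      have ha : -1 ≤ a ∧ a ≤ 1 := ⟨by nlinarith, by nlinarith⟩
      have hb : -1 ≤ b ∧ b ≤ 1 := ⟨by nlinarith, by nlinarith⟩
      obtain ⟨ha₁, ha₂⟩ := ha
      obtain ⟨hb₁, hb₂⟩ := hb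
      interval_cases a <;> interval_cases b <;> norm_num at hnorm <;> decide
    obtain ⟨j, rfl⟩ := hk
    have hkk : ((u : GaussianInt) ^ (2 * j + 1)) ^ (2 * j + 1) = u := by
      rw [← pow_mul, show (2 * j + 1) * (2 * j + 1) = 4 * (j * j + j) + 1 by ring, pow_succ,
        pow_mul, hu4, one_pow, one_mul]
    exact ⟨d * (u : GaussianInt) ^ (2 * j + 1), by rw [mul_pow, hkk, hu]⟩
  have him : z.im = 1 ∨ z.im = -1 := by
    have h1 := im_dvd_im_pow z k
    rw [hz, hα] at h1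
    exact Int.isUnit_iff.1 (isUnit_of_dvd_one h1)
  obtain ⟨A, b⟩ := z
  dsimp only at him
  have hev : Even A := by
    have h1 := congrArg Zsqrtd.norm hz
    rw [show Zsqrtd.norm ((⟨A, b⟩ : GaussianInt) ^ k) = (Zsqrtd.norm (⟨A, b⟩ : GaussianInt)) ^ k
      from map_pow Zsqrtd.normMonoidHom _ k] at h1
    simp only [hα, Zsqrtd.norm_def] at h1
    rcases Int.even_or_odd A with hA | hA
    · exact hA
    · exfalso
      have h2 : Even (A * A - (-1) * b * b) := by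
        obtain ⟨l, rfl⟩ := hA
        rcases him with rfl | rfl <;> exact ⟨2 * l ^ 2 + 2 * l + 1, by ring⟩
      have h3 := (Int.even_pow (n := k)).2 ⟨h2, by omega⟩
      rw [h1] at h3
      obtain ⟨l, hl⟩ := h3
      ring_nf at hl
      omega
  obtain ⟨c, hc⟩ := hev
  by_cases hc0 : c = 0
  · subst hc0
    have hA : A = 0 := by simpa using hc
    subst hA
    obtain ⟨j, rfl⟩ := hk
    obtain ⟨e, -, hje⟩ := pow_odd_imag b him j
    rw [hje, hα] at hz
    have := congrArg Zsqrtd.re hz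
    simp only at this
    omega
  exfalso
  obtain ⟨j, hj⟩ := hk
  obtain ⟨e, he, hje⟩ := pow_odd_imag b him j
  have hsplit : (⟨A, b⟩ : GaussianInt) = ⟨0, b⟩ * ⟨1, 2 * (-(c * b))⟩ := by
    rcases him with rfl | rfl <;> ext <;> simp [hc] <;> ring
  have hne := re_pow_ne (-(c * b)) (neg_ne_zero.2 (mul_ne_zero hc0 (by omega)))
    (k := k) ⟨j, hj⟩ hk1
  rw [hsplit, mul_pow, hj, hje, ← hj, hα] at hz
  have := congrArg Zsqrtd.im hz
  simp only [Zsqrtd.im_mul] at this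
  rcases he with rfl | rfl <;> omega

/-- `p ^ (4 k) - 1` is a divisor of `p ^ (2 k) + 1` times a square only for `k = 1`. -/
theorem eq_one_of_eq_prime_mul_sq {p k r h : ℕ} (hp : p.Prime) (hp2 : p ≠ 2) (hk : 1 ≤ k)
    (hr : r.Prime) (hr2 : r ≠ 2) (hdvd : r ∣ p ^ (2 * k) + 1)
    (heq : p ^ (4 * k) - 1 = r * h ^ 2) : k = 1 := by
  obtain ⟨X, hX⟩ : ∃ X, X = p ^ k := ⟨_, rfl⟩
  have hXodd : X % 2 = 1 := hX ▸ Nat.odd_iff.1 ((hp.odd_of_ne_two hp2).pow)
  obtain ⟨c, hc⟩ : ∃ c, X = 2 * c + 1 := ⟨X / 2, by omega⟩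
  have hc0 : 0 < c := by
    by_contra h0
    have h1 : X = 1 := by omega
    rw [hX, Nat.pow_eq_one] at h1
    rcases h1 with h1 | h1
    · exact hp.ne_one h1
    · omega
  obtain ⟨A, hA⟩ : ∃ A, A = 2 * c * (c + 1) := ⟨_, rfl⟩
  have h2k : p ^ (2 * k) = 2 * A + 1 := by
    rw [mul_comm 2 k, pow_mul, ← hX, hc, hA]; ring
  have h4k : p ^ (4 * k) - 1 = 4 * (A * (A + 1)) := by
    rw [show 4 * k = 2 * k * 2 by ring, pow_mul, h2k]
    have : (2 * A + 1) ^ 2 = 4 * (A * (A + 1)) + 1 := by ring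
    omega
  rw [h4k] at heq
  rw [h2k] at hdvd
  have hrB : r ∣ A + 1 := by
    have : r ∣ 2 * (A + 1) := by rwa [show 2 * (A + 1) = 2 * A + 1 + 1 by ring]
    exact ((Nat.coprime_primes hr Nat.prime_two).2 hr2).dvd_of_dvd_mul_left this
  obtain ⟨B, hB⟩ := hrB
  obtain ⟨g, rfl⟩ : 2 ∣ h := by
    have h2 : 2 ∣ r * h ^ 2 := heq ▸ Dvd.intro (2 * (A * (A + 1))) (by ring)
    exact Nat.prime_two.dvd_of_dvd_pow
      (((Nat.coprime_primes Nat.prime_two hr).2 (Ne.symm hr2)).dvd_of_dvd_mul_left h2)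
  have hAB : A * B = g ^ 2 := by
    refine Nat.eq_of_mul_eq_mul_left (show 0 < 4 * r by have := hr.pos; omega) ?_
    rw [hB] at heq
    linarith [heq]
  have hcopAB : Nat.Coprime A B := Nat.Coprime.coprime_dvd_right ⟨r, by rw [hB]; ring⟩
    (Nat.coprime_self_add_right.2 (Nat.coprime_one_right A))
  have hsq : ∀ {u v w : ℕ}, Nat.Coprime u v → u * v = w ^ 2 → ∃ t, u = t ^ 2 :=
    fun huv huvw => exists_eq_pow_of_mul_eq_pow (Nat.isUnit_iff.2 huv) huvw
  obtain ⟨t, ht⟩ := hsq hcopAB hAB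
  obtain ⟨s, rfl⟩ : 2 ∣ t := Nat.prime_two.dvd_of_dvd_pow (n := 2) (Dvd.intro (c * (c + 1)) (by
    rw [← ht, hA]; ring))
  have hcc : c * (c + 1) = 2 * s ^ 2 := by rw [hA] at ht; nlinarith
  have hcop1 : Nat.Coprime c (c + 1) := Nat.coprime_self_add_right.2 (Nat.coprime_one_right c)
  rcases Nat.even_or_odd c with ⟨d, rfl⟩ | ⟨d, hd⟩
  · -- `X - 1` is a square
    obtain ⟨v, hv⟩ := hsq (Nat.Coprime.coprime_dvd_left ⟨2, by ring⟩ hcop1 :
        Nat.Coprime d (d + d + 1)) (w := s)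
        (Nat.eq_of_mul_eq_mul_left (show 0 < 2 by norm_num) (by rw [← hcc]; ring))
    have hXv : X = (2 * v) ^ 2 + 1 := by rw [hc, hv]; ring
    rcases Nat.even_or_odd k with ⟨l, rfl⟩ | hkodd
    · exfalso
      rw [hX, pow_add] at hXv
      rcases le_or_gt (p ^ l) (2 * v) with hle | hlt
      · have := Nat.mul_le_mul hle hle
        rw [sq] at hXv
        linarith
      · have := Nat.mul_le_mul hlt hlt
        have : 0 < v := by
          rcases Nat.eq_zero_or_pos v with rfl | h0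
          · simp at hv; omega
          · exact h0
        simp only [Nat.succ_eq_add_one] at *
        nlinarith
    · rcases Nat.lt_or_ge 1 k with h1 | h1
      · have := lebesgue hkodd h1 (hX ▸ hXv : p ^ k = (2 * v) ^ 2 + 1)
        have : v = 0 := by omega
        subst this
        simp at hv
        omega
      · omega
  · -- `X + 1` is a square
    subst hd
    obtain ⟨v, hv⟩ := hsq ((Nat.Coprime.coprime_dvd_right ⟨2, by ring⟩ hcop1).symm :
        Nat.Coprime (d + 1) (2 * d + 1)) (w := s)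
        (Nat.eq_of_mul_eq_mul_left (show 0 < 2 by norm_num) (by rw [← hcc]; ring))
    have hXv : p ^ k + 1 = (2 * v) ^ 2 := by
      rw [← hX, hc, show (2 * v) ^ 2 = 4 * v ^ 2 by ring, ← hv]; ring
    have hv0 : 0 < v := by
      rcases Nat.eq_zero_or_pos v with rfl | h0
      · simp at hv
      · exact h0
    have hmul : (2 * v - 1) * (2 * v + 1) = p ^ k := by
      obtain ⟨u, rfl⟩ : ∃ u, v = u + 1 := ⟨v - 1, by omega⟩
      rw [show 2 * (u + 1) - 1 = 2 * u + 1 by omega]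
      have : (2 * (u + 1)) ^ 2 = (2 * u + 1) * (2 * (u + 1) + 1) + 1 := by ring
      omega
    obtain ⟨i, -, hi⟩ := (Nat.dvd_prime_pow hp).1 (Dvd.intro _ hmul)
    obtain ⟨j, -, hj⟩ := (Nat.dvd_prime_pow hp).1 (Dvd.intro_left _ hmul)
    rcases Nat.eq_zero_or_pos i with rfl | hi0
    · rw [pow_zero] at hi
      have hv1 : v = 1 := by omega
      subst hv1
      have h3 : p ^ k = 3 := by omega
      exact (Nat.Prime.pow_eq_iff (by norm_num : Nat.Prime 3)).1 h3 |>.2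
    · exfalso
      have hj0 : 0 < j := by
        rcases Nat.eq_zero_or_pos j with rfl | h0
        · rw [pow_zero] at hj; omega
        · exact h0
      have h1 : p ∣ 2 := by
        have hA' : p ∣ 2 * v - 1 := hi ▸ dvd_pow_self p hi0.ne'
        have hB' : p ∣ 2 * v + 1 := hj ▸ dvd_pow_self p hj0.ne'
        have := Nat.dvd_sub hB' hA'
        rwa [show 2 * v + 1 - (2 * v - 1) = 2 by omega] at this
      exact hp2 ((Nat.prime_dvd_prime_iff_eq hp Nat.prime_two).1 h1)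

end CfsgLib.HeightZeroThree
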