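import Cfsg.Agent.HeightZeroThree.TwoOver
import Cfsg.Agent.EqualDegree.Stab
import Cfsg.Agent.BlockPairing.DefectOne
import Cfsg.Agent.OddOrderChar.Clifford
import Cfsg.Agent.S4648
import Mathlib.GroupTheory.FiniteAbelian.Duality
import Mathlib.RingTheory.RootsOfUnity.EnoughRootsOfUnity
import Mathlib.Analysis.Complex.Polynomial.Basic

/-!
# At most three characters over an abelian normal defect group

For a block `B` of `G` with abelian normal defect group `D`, `p` odd and `k(B) ≤ 3`, the inertial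
quotient acts on the dual of `D` as in `card_le_three`, unless only one member is trivial on `D`,
in which case the block has p-regular rank one.  Either way `|D| ≤ 3`.
-/

set_option autoImplicit false
set_option linter.style.haveILetI false
set_option linter.unusedSectionVars false

namespace CfsgLib.HeightZeroThree

open Cfsg CfsgLib.Blocks CfsgLib.BlocksLocal CfsgLib.OddOrderChar CfsgLib.EqualDegree CfsgLib.Star
open scoped ComplexConjugate

universe u

variable {G : Type u} [Group G] [Fintype G] {p : ℕ} [Fact p.Prime] {M : Ideal AlgInt} [M.IsPrime]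
  {B : Set (IrrCharacter G)} {D : Subgroup G} [D.Normal]

local notation "LL" => D ⊔ Subgroup.centralizer (D : Set G)

variable [Fintype ↥(D ⊔ Subgroup.centralizer (D : Set G))]
  {b : Set (IrrCharacter ↥(D ⊔ Subgroup.centralizer (D : Set G)))}

/-- In a set of at most three elements a fourth one is one of three distinct ones. -/
theorem eq_of_three {α : Type*} [Finite α] {S : Set α} (hS : Nat.card S ≤ 3) {a a' a'' x : α}
    (ha : a ∈ S) (ha' : a' ∈ S) (ha'' : a'' ∈ S) (hx : x ∈ S) (h : a ≠ a') (h' : a ≠ a'')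
    (h'' : a' ≠ a'') : x = a ∨ x = a' ∨ x = a'' := by
  by_contra hno
  push Not at hno
  have h1 : ({x, a, a', a''} : Set α).ncard ≤ S.ncard :=
    Set.ncard_le_ncard (by
      rintro y (rfl | rfl | rfl | rfl) <;> assumption) (Set.toFinite S)
  rw [Set.ncard_insert_of_notMem (by simp [hno.1, hno.2.1, hno.2.2]) (Set.toFinite _),
    Set.ncard_insert_of_notMem (by simp [h, h']) (Set.toFinite _), Set.ncard_pair h'',
    ← Nat.card_coe_set_eq S] at h1
  omega

variable (h : Setting p M B D b)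
include h

/-- A member of `b` is a multiple of a linear character on `D`. -/
theorem exists_lin (θ : IrrCharacter ↥LL) : ∃ l : D →* ℂˣ, ∀ x : D,
    (θ : ↥LL → ℂ) ⟨x, Subgroup.mem_sup_left x.2⟩ = (l x : ℂ) * (θ : ↥LL → ℂ) 1 := by
  obtain ⟨f, hf⟩ := θ
  obtain ⟨d, ρ, hρ, hc⟩ := hf
  haveI := hρ
  let ι : D →* ↥LL := Subgroup.inclusion le_sup_left
  have hcen : ∀ x : D, ι x ∈ Subgroup.center ↥LL := fun x => Subgroup.mem_center_iff.2 fun g =>
    Subtype.ext (Subgroup.mem_centralizer_iff.1 (h.le_centralizer g.2) (x : G) x.2).symm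
  choose c hc' using fun x : D => Characters.central_scalar ρ (hcen x)
  have hd0 : (d : ℂ) ≠ 0 := by
    have := Characters.irr_one_ne_zero (G := ↥LL) (χ := f) ⟨d, ρ, hρ, hc⟩
    rwa [← hc, Representation.char_one, Module.finrank_fin_fun] at this
  have hval : ∀ x : D, f (ι x) = c x * d := fun x => by
    rw [← hc, Representation.character, hc' x, map_smul, LinearMap.trace_id,
      Module.finrank_fin_fun, smul_eq_mul]
  have hmul : ∀ x y : D, c (x * y) = c x * c y := fun x y => by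
    refine mul_right_cancel₀ hd0 ?_
    rw [← hval, ← hc, Representation.character, map_mul, map_mul, hc' x, hc' y, smul_mul_smul_comm,
      ← Module.End.one_eq_id, one_mul, Module.End.one_eq_id, map_smul, LinearMap.trace_id,
      Module.finrank_fin_fun, smul_eq_mul]
  have hone : c 1 = 1 := by
    refine mul_right_cancel₀ hd0 ?_
    rw [← hval, map_one, ← hc, Representation.char_one, Module.finrank_fin_fun, one_mul]
  let φ : D →* ℂ := { toFun := c, map_one' := hone, map_mul' := hmul }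
  refine ⟨φ.toHomUnits, fun x => ?_⟩
  show f (ι x) = c x * f 1
  rw [hval, ← hc, Representation.char_one, Module.finrank_fin_fun]

/-- The linear character of a member of `b` on `D`. -/
noncomputable def lin (θ : IrrCharacter ↥LL) : D →* ℂˣ := (exists_lin h θ).choose

theorem lin_spec (θ : IrrCharacter ↥LL) (x : D) :
    (θ : ↥LL → ℂ) ⟨x, Subgroup.mem_sup_left x.2⟩ = (lin h θ x : ℂ) * (θ : ↥LL → ℂ) 1 :=
  (exists_lin h θ).choose_spec x

theorem lin_unique (θ : IrrCharacter ↥LL) {l : D →* ℂˣ}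
    (hl : ∀ x : D, (θ : ↥LL → ℂ) ⟨x, Subgroup.mem_sup_left x.2⟩ = (l x : ℂ) * (θ : ↥LL → ℂ) 1) :
    lin h θ = l :=
  MonoidHom.ext fun x => Units.ext
    (mul_right_cancel₀ (Characters.irr_one_ne_zero θ.2) ((lin_spec h θ x).symm.trans (hl x)))

theorem lin_injOn {θ θ' : IrrCharacter ↥LL} (hθ : θ ∈ b) (hθ' : θ' ∈ b)
    (he : lin h θ = lin h θ') : θ = θ' := by
  classical
  have hP := h.isP.comap_subtype (K := LL)
  obtain ⟨θ₀, ⟨hθ₀, hker⟩, -⟩ := existsUnique_kerContains hP h.top_eq h.hM h.hind.1 h.hb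
  obtain ⟨a, ha0, ha⟩ := Characters.exists_degree_pos θ.2
  obtain ⟨a', ha0', ha'⟩ := Characters.exists_degree_pos θ'.2
  have hψ := Characters.irr_one_ne_zero θ₀.2
  have key : ∀ z : ↥LL,
      (θ : ↥LL → ℂ) z * (θ' : ↥LL → ℂ) 1 = (θ' : ↥LL → ℂ) z * (θ : ↥LL → ℂ) 1 := by
    intro z
    by_cases hz : pPart p z ∈ D.subgroupOf LL
    · have hw := rp_spec (p := p) z
      rw [← pPart_mul_rp (p := p) z]
      refine mul_right_cancel₀ hψ ?_
      have e1 := char_mul_regular hP h.top_eq h.hM h.hind.1 h.hb hθ₀ hker hθ hz hw.2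
      have e2 := char_mul_regular hP h.top_eq h.hM h.hind.1 h.hb hθ₀ hker hθ' hz hw.2
      have hx : ∀ φ : IrrCharacter ↥LL, (φ : ↥LL → ℂ) (pPart p z) =
          (lin h φ ⟨_, Subgroup.mem_subgroupOf.1 hz⟩ : ℂ) * (φ : ↥LL → ℂ) 1 := fun φ =>
        lin_spec h φ ⟨_, Subgroup.mem_subgroupOf.1 hz⟩
      rw [mul_right_comm, e1, mul_right_comm _ ((θ : ↥LL → ℂ) 1), e2, hx θ, hx θ', he]
      ring
    · have hv : ∀ φ : IrrCharacter ↥LL, φ ∈ b → (φ : ↥LL → ℂ) z = 0 := fun φ hφ =>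
        char_eq_zero_of_not_mem_defectGroup h.hM φ (pPart_spec z) fun E hE hmem => hz (by
          rw [← eq_blockOf_of_mem h.hind.1 hφ] at hE
          obtain ⟨c, rfl⟩ := IsDefectGroup.exists_conj h.hM h.hind.1 h.hb hE
          rwa [BlockPairs.cj_eq_self (by rw [Subgroup.normalizer_eq_top]; trivial)] at hmem)
      rw [hv θ hθ, hv θ' hθ', zero_mul, zero_mul]
  by_contra hne
  have h0 : Cfsg.classInner (fun z => (θ : ↥LL → ℂ) z * (θ' : ↥LL → ℂ) 1) (θ : ↥LL → ℂ) = 0 := by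
    rw [funext key, show (fun z => (θ' : ↥LL → ℂ) z * (θ : ↥LL → ℂ) 1) =
      (θ : ↥LL → ℂ) 1 • (θ' : ↥LL → ℂ) from funext fun z => mul_comm _ _,
      Characters.classInner_smul_left,
      Characters.classInner_isIrr_ne θ'.2 θ.2 fun e => hne (Subtype.ext e).symm, mul_zero]
  rw [show (fun z => (θ : ↥LL → ℂ) z * (θ' : ↥LL → ℂ) 1) = (θ' : ↥LL → ℂ) 1 • (θ : ↥LL → ℂ) from
    funext fun z => mul_comm _ _, Characters.classInner_smul_left,
    Characters.classInner_isIrr_self θ.2, mul_one] at h0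
  exact Characters.irr_one_ne_zero θ'.2 h0

/-- Every linear character of `D` belongs to a member of `b`. -/
theorem lin_surjOn (l : D →* ℂˣ) : ∃ θ ∈ b, lin h θ = l := by
  classical
  letI : CommGroup D :=
    { (inferInstance : Group D) with mul_comm := fun x y => Subtype.ext (h.ab x x.2 y y.2) }
  have hcard : Nat.card (D →* ℂˣ) = Nat.card D :=
    CommGroup.card_monoidHom_of_hasEnoughRootsOfUnity D ℂ
  have hb : Nat.card b = Nat.card D := by
    rw [card_block_eq (h.isP.comap_subtype (K := LL)) h.top_eq h.hM h.hind.1 h.hb]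
    letI : CommGroup (D.subgroupOf LL) :=
      { (inferInstance : Group (D.subgroupOf LL)) with
        mul_comm := fun x y => Subtype.ext (Subtype.ext
          (h.ab _ (Subgroup.mem_subgroupOf.1 x.2) _ (Subgroup.mem_subgroupOf.1 y.2))) }
    show Nat.card (ConjClasses (D.subgroupOf LL)) = _
    rw [Nat.card_congr (ConjClasses.mkEquiv (α := D.subgroupOf LL)).symm]
    exact Nat.card_congr (Subgroup.subgroupOfEquivOfLe le_sup_left).toEquiv
  haveI : Finite (D →* ℂˣ) := Nat.finite_of_card_ne_zero (hcard ▸ Nat.card_pos.ne')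
  have hinj : Function.Injective fun θ : b => lin h θ.1 := fun θ θ' he =>
    Subtype.ext (lin_injOn h θ.2 θ'.2 he)
  obtain ⟨θ, hθ⟩ := ((Nat.bijective_iff_injective_and_card _).2 ⟨hinj, hb.trans hcard.symm⟩).2 l
  exact ⟨θ.1, θ.2, hθ⟩

theorem lin_eq_one_iff {θ₀ θ : IrrCharacter ↥LL} (hθ₀ : θ₀ ∈ b) (hOm : θ₀ ∈ Om D b) (hθ : θ ∈ b) :
    lin h θ = 1 ↔ θ = θ₀ := by
  have h1 : lin h θ₀ = 1 := lin_unique h θ₀ fun x => by
    rw [hOm.2 _ x.2]; simp
  exact ⟨fun e => lin_injOn h hθ hθ₀ (e.trans h1.symm), fun e => e ▸ h1⟩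

/-- An element moving a member of `b` into `b` fixes the member trivial on `D`. -/
theorem fix_of_mem {θ₀ θ : IrrCharacter ↥LL} (hθ₀ : θ₀ ∈ b) (hOm : θ₀ ∈ Om D b) (hθ : θ ∈ b)
    {g : G} (hg : conjIrr LL θ g ∈ b) : conjIrr LL θ₀ g = θ₀ := by
  have h1 : conjIrr LL θ₀ g ∈ b := by
    rw [eq_blockOf_of_mem h.hind.1 hg, mem_blockOf]
    refine sameBlock_conjIrr LL (M := M) ?_ g
    rw [eq_blockOf_of_mem h.hind.1 hθ] at hθ₀
    exact mem_blockOf.1 hθ₀
  exact (lin_eq_one_iff h hθ₀ hOm h1).1 (lin_unique h _ fun x => by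
    rw [(conjIrr_mem_Om hOm g).2 _ x.2]; simp)

/-- Members of `b` with a common character over them are conjugate under the stabilizer. -/
theorem exists_conj_of_over {θ₀ θ θ' : IrrCharacter ↥LL} (hθ₀ : θ₀ ∈ b) (hOm : θ₀ ∈ Om D b)
    (hθ : θ ∈ b) (hθ' : θ' ∈ b) {χ : IrrCharacter G}
    (h1 : Cfsg.classInner (fun l : ↥LL => (χ : G → ℂ) l) (θ : ↥LL → ℂ) ≠ 0)
    (h2 : Cfsg.classInner (fun l : ↥LL => (χ : G → ℂ) l) (θ' : ↥LL → ℂ) ≠ 0) :
    ∃ g : G, conjIrr LL θ₀ g = θ₀ ∧ θ' = conjIrr LL θ g := by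
  obtain ⟨g, hg⟩ :=
    CharactersDeep.Clifford.exists_conjBy_of_constituents LL χ.2 θ.2 θ'.2 h1 h2
  have e : θ' = conjIrr LL θ g := Subtype.ext hg
  exact ⟨g, fix_of_mem h hθ₀ hOm hθ (e ▸ hθ'), e⟩

/-- When one member lies over `θ₀`, the block has rank one. -/
theorem blockRank_eq_one_of_unique {θ₀ : IrrCharacter ↥LL} (hall : ∀ ω ∈ Om D b, ∃ g : G,
      ω = conjIrr LL θ₀ g) {χ₀ : IrrCharacter G} (huniq : ∀ χ : IrrCharacter G,
      Cfsg.classInner (fun l : ↥LL => (χ : G → ℂ) l) (θ₀ : ↥LL → ℂ) ≠ 0 → χ = χ₀) :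
    Cfsg.blockRank p B = 1 := by
  classical
  have hgood : ∀ η, Good B D η → η = χ₀ := by
    intro η hη
    obtain ⟨θ, hθ⟩ := exists_constituent LL η
    have hΩ : θ ∈ Om D b := ⟨h.constituent_mem hη.1 hθ, fun x hx =>
      Broline73.apply_eq_one_of_constituent
        (Characters.isCharacter_restrict LL (Characters.isCharacter_of_isIrr η.2)) θ hθ
        (by show (η : G → ℂ) (x : G) = (η : G → ℂ) ((1 : ↥LL) : G)
            rw [hη.2 _ hx]; rfl)⟩
    obtain ⟨g, rfl⟩ := hall θ hΩ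
    rw [coe_conjIrr, CharactersDeep.Clifford.classInner_restrict_conjBy LL
      (Characters.isClassFunction_of_isIrr η.2)] at hθ
    exact huniq η hθ
  refine le_antisymm ?_ (BlockPairing.one_le_blockRank (isPBlock_nonempty h.hB))
  have hsub : Submodule.span ℂ
      ((fun χ : IrrCharacter G => Cfsg.pRegularPart p (χ : G → ℂ)) '' B) ≤
      Submodule.span ℂ {Cfsg.pRegularPart p (χ₀ : G → ℂ)} := by
    refine Submodule.span_le.2 ?_
    rintro _ ⟨χ, hχ, rfl⟩
    refine Submodule.mem_span_singleton.2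
      ⟨if Good B D χ₀ then dcoef p (χ : G → ℂ) χ₀ else 0, funext fun z => ?_⟩
    show (_ • Cfsg.pRegularPart p (χ₀ : G → ℂ)) z = Cfsg.pRegularPart p (χ : G → ℂ) z
    rw [Pi.smul_apply, BlockPairing.pRegularPart_apply, BlockPairing.pRegularPart_apply]
    by_cases hz : p ∣ orderOf z
    · simp [hz]
    · rw [if_neg hz, if_neg hz]
      have h1 := eq_sum_good (f := (χ : G → ℂ)) (V := D) h.isP h.hM (isBlockUnion_of_isPBlock h.hB)
        (Characters.isClassFunction_of_isIrr χ.2) (fun ψ hψ => by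
          rw [Characters.classInner_irr, if_neg fun e => hψ (by rw [← e]; exact hχ)]) hz
      rw [Finset.sum_eq_single χ₀ (fun η _ hne => if_neg fun hg => hne (hgood η hg)) (by simp)] at h1
      rw [h1, smul_eq_mul]
      split_ifs <;> simp
  exact (Submodule.finrank_mono hsub).trans
    ((finrank_span_le_card ({Cfsg.pRegularPart p (χ₀ : G → ℂ)} : Set (G → ℂ))).trans (by simp))

/-- With one character over `θ`, the index of `L` in the stabilizer of `θ` is a square. -/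
theorem isSquare_stabilizer {θ : IrrCharacter ↥LL} {χ : IrrCharacter G} (I : Subgroup G)
    (hI : ∀ g : G, g ∈ I ↔ conjBy LL (θ : ↥LL → ℂ) g = (θ : ↥LL → ℂ))
    (hcov : Cfsg.classInner (fun l : ↥LL => (χ : G → ℂ) l) (θ : ↥LL → ℂ) ≠ 0)
    (huniq : ∀ χ' : IrrCharacter G,
      Cfsg.classInner (fun l : ↥LL => (χ' : G → ℂ) l) (θ : ↥LL → ℂ) ≠ 0 → χ' = χ) :
    ∃ e : ℕ, Nat.card I = e ^ 2 * Nat.card ↥LL := by
  classical
  obtain ⟨e, he⟩ := Characters.classInner_character_irr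
    (Characters.isCharacter_restrict LL (Characters.isCharacter_of_isIrr χ.2)) θ.2
  refine ⟨e, ?_⟩
  have hind : Cfsg.indFun LL (θ : ↥LL → ℂ) = (e : ℂ) • (χ : G → ℂ) := by
    refine Characters.classFunction_ext (Characters.isClassFunction_indFun _ _)
      (fun x y => by simp [Characters.isClassFunction_of_isIrr χ.2 x y]) fun ψ => ?_
    rw [Characters.classInner_indFun LL _ (Characters.isClassFunction_of_isIrr ψ.2),
      Characters.classInner_smul_left, Characters.classInner_irr]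
    by_cases hψ : χ = ψ
    · subst hψ
      rw [if_pos rfl, mul_one, Characters.classInner_conj_symm, he, Complex.conj_natCast]
    · rw [if_neg hψ, mul_zero, Characters.classInner_conj_symm]
      by_contra h0
      exact hψ (huniq ψ fun h0' => h0 (by rw [h0', map_zero])).symm
  have hdeg : (χ : G → ℂ) 1 = (e : ℂ) *
      ((CharactersDeep.Clifford.orbit LL (θ : ↥LL → ℂ)).card * (θ : ↥LL → ℂ) 1) := by
    have h5 := congrFun (CharactersDeep.Clifford.restrict_eq_orbit_sum LL χ.2 θ.2 hcov) 1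
    simp only [Pi.smul_apply, Finset.sum_apply, smul_eq_mul, he, OneMemClass.coe_one] at h5
    rw [h5, Finset.sum_congr rfl (g := fun _ => (θ : ↥LL → ℂ) 1) fun φ hφ => ?_, Finset.sum_const,
      nsmul_eq_mul]
    obtain ⟨g, rfl⟩ := (CharactersDeep.Clifford.mem_orbit LL).1 hφ
    exact congrArg (θ : ↥LL → ℂ) (Subtype.ext (by simp))
  have h1 := congrFun hind 1
  rw [Characters.indFun_one, Pi.smul_apply, smul_eq_mul, hdeg] at h1
  have h2 : (LL).index = e * (e * (CharactersDeep.Clifford.orbit LL (θ : ↥LL → ℂ)).card) := by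
    have h3 : ((LL).index : ℂ) = (e : ℂ) *
        ((e : ℂ) * (CharactersDeep.Clifford.orbit LL (θ : ↥LL → ℂ)).card) :=
      mul_right_cancel₀ (Characters.irr_one_ne_zero θ.2) (by rw [h1]; ring)
    exact_mod_cast h3
  have h4 := CharactersDeep.Clifford.card_orbit_mul LL (θ : ↥LL → ℂ) I hI
  refine Nat.eq_of_mul_eq_mul_left
    (show 0 < (CharactersDeep.Clifford.orbit LL (θ : ↥LL → ℂ)).card from
      Finset.card_pos.2 ⟨_, (CharactersDeep.Clifford.mem_orbit LL).2 ⟨1, rfl⟩⟩) ?_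
  rw [h4, ← Subgroup.index_mul_card LL, h2]
  ring

/-- **At most three members over an abelian normal defect group.** -/
theorem card_le_three_of_setting (hp : p ≠ 2) (hk : Nat.card B ≤ 3) : Nat.card D ≤ 3 := by
  classical
  have hpp : p.Prime := Fact.out
  rcases eq_or_ne D ⊥ with rfl | hD1
  · rw [Subgroup.card_bot]; norm_num
  obtain ⟨θ₀, hθ₀, hOm, -, hall⟩ := h.exists_theta0
  obtain ⟨f, hf, hfc⟩ := CharactersDeep.Clifford.exists_over (G := G) (N := LL) θ₀.2
  let χ : IrrCharacter G := ⟨f, hf⟩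
  have hχc : Cfsg.classInner (fun l : ↥LL => (χ : G → ℂ) l) (θ₀ : ↥LL → ℂ) ≠ 0 := hfc
  by_cases huniq : ∀ χ' : IrrCharacter G,
      Cfsg.classInner (fun l : ↥LL => (χ' : G → ℂ) l) (θ₀ : ↥LL → ℂ) ≠ 0 → χ' = χ
  · obtain ⟨-, hcard, -⟩ := Cfsg.Agent.S4648.result p M h.hM B h.hB D h.hD hD1
      (blockRank_eq_one_of_unique h hall huniq) (by omega)
    omega
  push Not at huniq
  obtain ⟨χ', hχ'c, hne⟩ := huniq
  have hmem : ∀ {θ : IrrCharacter ↥LL} {φ : IrrCharacter G}, θ ∈ b →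
      Cfsg.classInner (fun l : ↥LL => (φ : G → ℂ) l) (θ : ↥LL → ℂ) ≠ 0 → φ ∈ B :=
    fun hθ hc => h.mem_of_blockOf hθ hc
  -- the group of linear characters
  letI : CommGroup D :=
    { (inferInstance : Group D) with mul_comm := fun x y => Subtype.ext (h.ab x x.2 y y.2) }
  have hV : Nat.card (D →* ℂˣ) = Nat.card D :=
    CommGroup.card_monoidHom_of_hasEnoughRootsOfUnity D ℂ
  haveI : Finite (D →* ℂˣ) := Nat.finite_of_card_ne_zero (hV ▸ Nat.card_pos.ne')
  haveI : Nontrivial (D →* ℂˣ) := by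
    rw [← Finite.one_lt_card_iff_nontrivial, hV]
    exact Finite.one_lt_card_iff_nontrivial.2 ((Subgroup.nontrivial_iff_ne_bot D).2 hD1)
  choose Θ hΘb hΘ using lin_surjOn h
  have hΘ0 : ∀ {l}, l ≠ 1 → Θ l ≠ θ₀ := fun {l} hl e =>
    hl (by rw [← hΘ l]; exact (lin_eq_one_iff h hθ₀ hOm (hΘb l)).2 e)
  -- the third member
  have hnot : ∀ {l}, l ≠ 1 → ∀ φ : IrrCharacter G,
      Cfsg.classInner (fun x : ↥LL => (φ : G → ℂ) x) (Θ l : ↥LL → ℂ) ≠ 0 →
      Cfsg.classInner (fun x : ↥LL => (φ : G → ℂ) x) (θ₀ : ↥LL → ℂ) ≠ 0 → False := by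
    intro l hl φ h1 h2
    obtain ⟨g, hg, e⟩ := exists_conj_of_over h hθ₀ hOm hθ₀ (hΘb l) h2 h1
    exact hΘ0 hl (e.trans hg)
  obtain ⟨l₀, hl₀⟩ := exists_ne (1 : D →* ℂˣ)
  obtain ⟨f'', hf'', hfc''⟩ := CharactersDeep.Clifford.exists_over (G := G) (N := LL) (Θ l₀).2
  let χ'' : IrrCharacter G := ⟨f'', hf''⟩
  have h'' : χ ≠ χ'' := fun e => hnot hl₀ χ'' hfc'' (e ▸ hχc)
  have h''' : χ' ≠ χ'' := fun e => hnot hl₀ χ'' hfc'' (e ▸ hχ'c)
  have hthree : ∀ {θ : IrrCharacter ↥LL} {φ : IrrCharacter G}, θ ∈ b →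
      Cfsg.classInner (fun l : ↥LL => (φ : G → ℂ) l) (θ : ↥LL → ℂ) ≠ 0 →
      φ = χ ∨ φ = χ' ∨ φ = χ'' := fun hθ hc =>
    eq_of_three hk (hmem hθ₀ hχc) (hmem hθ₀ hχ'c) (hmem (hΘb l₀) hfc'') (hmem hθ hc) hne.symm h''
      h'''
  have hone : ∀ {l}, l ≠ 1 → ∀ φ : IrrCharacter G,
      Cfsg.classInner (fun x : ↥LL => (φ : G → ℂ) x) (Θ l : ↥LL → ℂ) ≠ 0 → φ = χ'' := by
    intro l hl φ hc
    rcases hthree (hΘb l) hc with e | e | e
    · exact (hnot hl φ hc (e ▸ hχc)).elim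
    · exact (hnot hl φ hc (e ▸ hχ'c)).elim
    · exact e
  have hcov : ∀ {l}, l ≠ 1 →
      Cfsg.classInner (fun x : ↥LL => (χ'' : G → ℂ) x) (Θ l : ↥LL → ℂ) ≠ 0 := by
    intro l hl
    obtain ⟨φ, hφ, hc⟩ := CharactersDeep.Clifford.exists_over (G := G) (N := LL) (Θ l).2
    have := hone hl ⟨φ, hφ⟩ hc
    rw [← this]
    exact hc
  -- the stabilizer of `θ₀` and its action
  let T : Subgroup G :=
    { carrier := {g | conjIrr LL θ₀ g = θ₀}
      one_mem' := conjIrr_one LL θ₀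
      mul_mem' := fun {x y} (hx : conjIrr LL θ₀ x = θ₀) (hy : conjIrr LL θ₀ y = θ₀) => by
        show conjIrr LL θ₀ (x * y) = θ₀
        rw [← conjIrr_mul, hx, hy]
      inv_mem' := fun {x} (hx : conjIrr LL θ₀ x = θ₀) => by
        show conjIrr LL θ₀ x⁻¹ = θ₀
        conv_lhs => rw [← hx]
        rw [conjIrr_mul, mul_inv_cancel, conjIrr_one] }
  have hLT : LL ≤ T := fun g hg => conjIrr_of_mem θ₀ hg
  haveI : Fintype T := Fintype.ofFinite T
  let C' : Subgroup T := (LL).subgroupOf T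
  haveI : C'.Normal := Subgroup.normal_subgroupOf
  haveI : Fintype C' := Fintype.ofFinite C'
  let a : T →* MulAut (D →* ℂˣ) :=
    { toFun := fun t =>
        { toFun := fun l => l.comp (MulAut.conjNormal (H := D) (t : G)⁻¹).toMonoidHom
          invFun := fun l => l.comp (MulAut.conjNormal (H := D) (t : G)).toMonoidHom
          left_inv := fun l => MonoidHom.ext fun x => congrArg l (Subtype.ext (by simp [mul_assoc]))
          right_inv := fun l => MonoidHom.ext fun x => congrArg l (Subtype.ext (by simp [mul_assoc]))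
          map_mul' := fun l l' => rfl }
      map_one' := MulEquiv.ext fun l => MonoidHom.ext fun x => congrArg l (Subtype.ext (by simp))
      map_mul' := fun s t => MulEquiv.ext fun l => MonoidHom.ext fun x =>
        congrArg l (Subtype.ext (by simp [mul_assoc])) }
  have ha : ∀ (t : T) (l : D →* ℂˣ) (x : D),
      a t l x = l (MulAut.conjNormal (H := D) (t : G)⁻¹ x) := fun t l x => rfl
  have hker : C' ≤ a.ker := fun t ht => MulEquiv.ext fun l => MonoidHom.ext fun x => by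
    rw [ha, MulAut.one_apply]
    refine congrArg l (Subtype.ext ?_)
    have := Subgroup.mem_centralizer_iff.1 (h.le_centralizer (Subgroup.mem_subgroupOf.1 ht)) x x.2
    simp [mul_assoc, this]
  let A := QuotientGroup.lift C' a hker
  letI : MulDistribMulAction (T ⧸ C') (D →* ℂˣ) :=
    { smul := fun g l => A g l
      one_smul := fun l => by show A 1 l = l; rw [map_one]; rfl
      mul_smul := fun g g' l => by show A (g * g') l = A g (A g' l); rw [map_mul]; rfl
      smul_mul := fun g l l' => map_mul (A g) l l'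
      smul_one := fun g => map_one (A g) }
  have hsmul : ∀ (t : T) (l : D →* ℂˣ), (t : T ⧸ C') • l = a t l := fun t l => rfl
  -- the action on the members of `b`
  have hΘeq : ∀ (t : T) (l : D →* ℂˣ), Θ (a t l) = conjIrr LL (Θ l) (t : G)⁻¹ := by
    intro t l
    have hm : conjIrr LL (Θ l) (t : G)⁻¹ ∈ b := by
      have h1 : conjIrr LL θ₀ (t : G)⁻¹ = θ₀ := T.inv_mem t.2
      rw [eq_blockOf_of_mem h.hind.1 hθ₀, mem_blockOf, ← h1]
      refine sameBlock_conjIrr LL (M := M) ?_ _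
      have h2 := hΘb l
      rw [eq_blockOf_of_mem h.hind.1 hθ₀] at h2
      exact mem_blockOf.1 h2
    refine lin_injOn h (hΘb _) hm ?_
    rw [hΘ, lin_unique h (conjIrr LL (Θ l) (t : G)⁻¹) (l := a t l) fun x => ?_]
    rw [conjIrr_apply, conjIrr_one_apply, ha]
    have := lin_spec h (Θ l) (MulAut.conjNormal (H := D) (t : G)⁻¹ x)
    rw [hΘ] at this
    refine Eq.trans (congrArg _ (Subtype.ext ?_)) this
    simp
  -- faithful
  have hfaith : ∀ g : T ⧸ C', (∀ l : D →* ℂˣ, g • l = l) → g = 1 := by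
    intro g hg
    obtain ⟨t, rfl⟩ := QuotientGroup.mk_surjective g
    rw [QuotientGroup.eq_one_iff, Subgroup.mem_subgroupOf]
    refine Subgroup.mem_sup_right (Subgroup.mem_centralizer_iff.2 fun x hx => ?_)
    have h1 : MulAut.conjNormal (H := D) (t : G)⁻¹ ⟨x, hx⟩ = ⟨x, hx⟩ :=
      (CommGroup.forall_apply_eq_apply_iff D (M := ℂ)).1 fun l => by
        rw [← ha, ← hsmul, hg]
    have h2 : (t : G)⁻¹ * x * (t : G)⁻¹⁻¹ = x := by
      have := congrArg Subtype.val h1
      simpa using this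
    rw [inv_inv, mul_assoc, inv_mul_eq_iff_eq_mul] at h2
    exact h2
  -- transitive
  have htrans : ∀ l l' : D →* ℂˣ, l ≠ 1 → l' ≠ 1 → ∃ g : T ⧸ C', g • l = l' := by
    intro l l' hl hl'
    obtain ⟨g, hg, e⟩ := exists_conj_of_over h hθ₀ hOm (hΘb l) (hΘb l') (hcov hl) (hcov hl')
    refine ⟨((⟨g, hg⟩ : T)⁻¹ : T), ?_⟩
    rw [hsmul, ← hΘ (a _ l), hΘeq, ← hΘ l']
    congr 1
    rw [e]
    simp
  -- coprime
  have hcop : ¬ p ∣ Nat.card (T ⧸ C') := by
    intro hd
    obtain ⟨z, hz⟩ := exists_prime_orderOf_dvd_card' p hd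
    obtain ⟨t, rfl⟩ := QuotientGroup.mk_surjective z
    have hmap := (pPart_mk (p := p) (V := C') t).1
    rw [pPart_eq ⟨1, mul_one _, Commute.one_right _, ⟨1, by rw [pow_one, hz]⟩,
      by rw [orderOf_one]; exact hpp.not_dvd_one⟩] at hmap
    obtain ⟨k, hk'⟩ := exists_orderOf_pPart (p := p) t
    have hu : ((pPart p t : T) : G) ∈ LL :=
      h.mem_of_fixed hOm ⟨k, by rw [Subgroup.orderOf_coe, hk']⟩ (pPart p t).2
    have h1 : ((pPart p t : T) : T ⧸ C') = 1 :=
      (QuotientGroup.eq_one_iff _).2 (Subgroup.mem_subgroupOf.2 hu)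
    rw [hmap, h1, orderOf_one] at hz
    exact hpp.ne_one hz.symm
  -- stabilizers of square order
  have hsq : ∀ l : D →* ℂˣ, l ≠ 1 →
      IsSquare (Nat.card (MulAction.stabilizer (T ⧸ C') l)) := by
    intro l hl
    let I : Subgroup G :=
      { carrier := {g | conjIrr LL (Θ l) g = Θ l}
        one_mem' := conjIrr_one LL _
        mul_mem' := fun {x y} (hx : conjIrr LL (Θ l) x = Θ l) (hy : conjIrr LL (Θ l) y = Θ l) => by
          show conjIrr LL (Θ l) (x * y) = Θ l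
          rw [← conjIrr_mul, hx, hy]
        inv_mem' := fun {x} (hx : conjIrr LL (Θ l) x = Θ l) => by
          show conjIrr LL (Θ l) x⁻¹ = Θ l
          conv_lhs => rw [← hx]
          rw [conjIrr_mul, mul_inv_cancel, conjIrr_one] }
    obtain ⟨e, he⟩ := isSquare_stabilizer h I
      (fun g => ⟨fun hg => (coe_conjIrr LL _ g).symm.trans (congrArg Subtype.val hg),
        fun hg => Subtype.ext ((coe_conjIrr LL _ g).trans hg)⟩)
      (hcov hl) (hone hl)
    have hIT : I ≤ T := fun g (hg : conjIrr LL (Θ l) g = Θ l) =>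
      fix_of_mem h hθ₀ hOm (hΘb l) (by rw [hg]; exact hΘb l)
    have hcomap : (MulAction.stabilizer (T ⧸ C') l).comap (QuotientGroup.mk' C') =
        I.subgroupOf T := by
      ext t
      rw [Subgroup.mem_comap, QuotientGroup.mk'_apply, MulAction.mem_stabilizer_iff, hsmul,
        Subgroup.mem_subgroupOf, ← inv_mem_iff (x := (t : G))]
      show a t l = l ↔ conjIrr LL (Θ l) (t : G)⁻¹ = Θ l
      rw [← hΘeq]
      exact ⟨fun e => by rw [e], fun e => by rw [← hΘ (a t l), e, hΘ]⟩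
    have hidx := Subgroup.index_comap_of_surjective (MulAction.stabilizer (T ⧸ C') l)
      (f := QuotientGroup.mk' C') (QuotientGroup.mk'_surjective C')
    rw [hcomap] at hidx
    have hI' : Nat.card (I.subgroupOf T) = e ^ 2 * Nat.card ↥LL :=
      (Nat.card_congr (Subgroup.subgroupOfEquivOfLe hIT).toEquiv).trans he
    have hC' : Nat.card C' = Nat.card ↥LL :=
      Nat.card_congr (Subgroup.subgroupOfEquivOfLe hLT).toEquiv
    have e1 := Subgroup.index_mul_card (I.subgroupOf T)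
    rw [hidx, hI', ← Subgroup.index_mul_card C', hC', Subgroup.index_eq_card C',
      ← Subgroup.index_mul_card (MulAction.stabilizer (T ⧸ C') l), ← mul_assoc] at e1
    refine ⟨e, ?_⟩
    rw [← pow_two]
    exact (Nat.eq_of_mul_eq_mul_left
      (Nat.pos_of_ne_zero Subgroup.index_ne_zero_of_finite)
      (Nat.eq_of_mul_eq_mul_right Nat.card_pos e1)).symm
  -- two characters of the stabilizer over `θ₀`
  have hT : ∀ g : G, g ∈ T ↔ conjBy LL (θ₀ : ↥LL → ℂ) g = (θ₀ : ↥LL → ℂ) := fun g =>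
    ⟨fun hg => (coe_conjIrr LL _ g).symm.trans (congrArg Subtype.val hg),
      fun hg => Subtype.ext ((coe_conjIrr LL _ g).trans hg)⟩
  obtain ⟨ψ₁, e₁, he₁, hψ₁, hi₁, hr₁, -⟩ :=
    CharactersDeep.Clifford.exists_induced_from_inertia LL θ₀.2 T hT hLT χ.2 hχc
  obtain ⟨ψ₂, e₂, he₂, hψ₂, hi₂, hr₂, -⟩ :=
    CharactersDeep.Clifford.exists_induced_from_inertia LL θ₀.2 T hT hLT χ'.2 hχ'c
  let θ' : C' → ℂ := onSubgroupOf LL T (θ₀ : ↥LL → ℂ)
  have hθ' : Cfsg.IsIrrCharacter C' θ' := isIrr_onSubgroupOf LL T hLT θ₀.2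
  have hres : ∀ {ψ : T → ℂ} {e : ℕ},
      (fun n : ↥LL => ψ ⟨n, hLT n.2⟩) = (e : ℂ) • (θ₀ : ↥LL → ℂ) →
      (fun x : C' => ψ x) = (e : ℂ) • θ' := fun {ψ e} hr =>
    funext fun x => congrFun hr ⟨((x : T) : G), Subgroup.mem_subgroupOf.1 x.2⟩
  have hover : ∀ {ψ : T → ℂ} {e : ℕ}, 0 < e →
      (fun n : ↥LL => ψ ⟨n, hLT n.2⟩) = (e : ℂ) • (θ₀ : ↥LL → ℂ) →
      Cfsg.classInner (fun x : C' => ψ x) θ' ≠ 0 := fun {ψ e} he hr => by
    rw [hres hr, Characters.classInner_smul_left, Characters.classInner_isIrr_self hθ', mul_one]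
    exact Nat.cast_ne_zero.2 he.ne'
  have P : Pair C' θ' ψ₁ ψ₂ e₁ e₂ := by
    refine ⟨hθ', onSubgroupOf_invariant LL T hT, hψ₁, hψ₂, fun e => hne ?_, hres hr₁, hres hr₂,
      he₁, he₂, fun ψ hψ hc => ?_⟩
    · exact Subtype.ext (hi₂.symm.trans ((congrArg _ e.symm).trans hi₁))
    obtain ⟨hirr, heq, -⟩ := clifford_correspondence LL T θ₀.2 hT hψ hc
    have hc' : Cfsg.classInner
        (fun l : ↥LL => ((⟨_, hirr⟩ : IrrCharacter G) : G → ℂ) l) (θ₀ : ↥LL → ℂ) ≠ 0 := by
      show Cfsg.classInner (fun l : ↥LL => Cfsg.indFun T ψ l) (θ₀ : ↥LL → ℂ) ≠ 0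
      rw [heq]
      exact hc
    rcases hthree hθ₀ hc' with e | e | e
    · exact Or.inl ((clifford_correspondence LL T θ₀.2 hT hψ₁ (hover he₁ hr₁)).2.2 ψ hψ hc
        ((congrArg Subtype.val e).trans hi₁.symm))
    · exact Or.inr ((clifford_correspondence LL T θ₀.2 hT hψ₂ (hover he₂ hr₂)).2.2 ψ hψ hc
        ((congrArg Subtype.val e).trans hi₂.symm))
    · exact (hnot hl₀ χ'' hfc'' (e ▸ hc')).elim
  obtain ⟨n, hn⟩ := IsPGroup.iff_card.1 h.isP
  exact hV.symm.le.trans (card_le_three (E := T ⧸ C') hp (IsPGroup.of_card (hV.trans hn)) hcop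
    hfaith htrans hsq P.twisted)

end CfsgLib.HeightZeroThree
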