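import Mathlib.GroupTheory.PGroup
import Mathlib.GroupTheory.GroupAction.Defs
import Mathlib.RingTheory.LittleWedderburn
import Mathlib.RingTheory.IntegralDomain
import Mathlib.FieldTheory.Finite.Basic
import Mathlib.LinearAlgebra.Matrix.GeneralLinearGroup.Card
import Mathlib.LinearAlgebra.Matrix.GeneralLinearGroup.Defs
import Mathlib.Tactic

/-!
# An element of primitive prime order in a linear group

For a finite group `E` acting faithfully on an elementary abelian group `V` of order `p ^ n` and an
element `y` of prime order `r` with `p` of order `n` modulo `r`: `V` is irreducible under `y`, the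
centralizer of `y` is cyclic, and at most `n` of the powers of `y` are conjugate to `y`.
-/

set_option autoImplicit false
set_option linter.unusedSectionVars false

namespace CfsgLib.HeightZeroThree

variable {E V : Type*} [Group E] [Finite E] [CommGroup V] [Finite V] [MulDistribMulAction E V]

/-- The fixed points of an element. -/
def fixSub (g : E) : Subgroup V where
  carrier := {v | g • v = v}
  one_mem' := smul_one g
  mul_mem' := fun {a b} (ha : g • a = a) (hb : g • b = b) => by
    show g • (a * b) = a * b
    rw [smul_mul', ha, hb]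
  inv_mem' := fun {a} (ha : g • a = a) => by
    show g • a⁻¹ = a⁻¹
    rw [smul_inv', ha]

theorem mem_fixSub {g : E} {v : V} : v ∈ fixSub g ↔ g • v = v := Iff.rfl

section Element

variable {p : ℕ} [Fact p.Prime] {n : ℕ} (hV : Nat.card V = p ^ n)
  {r : ℕ} [Fact r.Prime] (hord : orderOf (p : ZMod r) = n) (hn : 0 < n)
  {y : E} (hy : orderOf y = r) (hfaith : ∀ g : E, (∀ v : V, g • v = v) → g = 1)
include hV hord hn hy hfaith

theorem card_invariant (W : Subgroup V) (hW : ∀ v ∈ W, y • v ∈ W) :
    ∃ a b : ℕ, Nat.card W = p ^ a ∧ Nat.card ↥(W ⊓ fixSub y) = p ^ b ∧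
      (a = b ∨ (a = n ∧ b = 0)) := by
  have hp : p.Prime := Fact.out
  obtain ⟨a, ha, hWa⟩ := (Nat.dvd_prime_pow hp).1 (hV ▸ Subgroup.card_subgroup_dvd_card W)
  obtain ⟨b, hb, hWb⟩ := (Nat.dvd_prime_pow hp).1
    (hWa ▸ Subgroup.card_dvd_of_le (inf_le_left : W ⊓ fixSub y ≤ W))
  refine ⟨a, b, hWa, hWb, ?_⟩
  have hpow : ∀ (k : ℕ), ∀ v ∈ W, y ^ k • v ∈ W := by
    intro k
    induction k with
    | zero => intro v hv; rwa [pow_zero, one_smul]
    | succ k ih => intro v hv; rw [pow_succ, mul_smul]; exact ih _ (hW v hv)
  have hz : ∀ z : Subgroup.zpowers y, ∀ v ∈ W, (z : E) • v ∈ W := fun z v hv => by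
    obtain ⟨k, hk⟩ := mem_powers_iff_mem_zpowers.2 z.2
    exact hk ▸ hpow k v hv
  letI : MulAction (Subgroup.zpowers y) W :=
    { smul := fun z v => ⟨(z : E) • (v : V), hz z v v.2⟩
      one_smul := fun v => Subtype.ext (one_smul E (v : V))
      mul_smul := fun g h v => Subtype.ext (mul_smul (g : E) (h : E) (v : V)) }
  have hmod := (IsPGroup.of_card (p := r) (n := 1)
    (by rw [Nat.card_zpowers, hy, pow_one]) : IsPGroup r (Subgroup.zpowers y)).card_modEq_card_fixedPoints W
  have hfix : Nat.card (MulAction.fixedPoints (Subgroup.zpowers y) W) = Nat.card ↥(W ⊓ fixSub y) := by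
    refine Nat.card_congr ⟨fun v => ⟨v.1.1, v.1.2, congrArg Subtype.val (v.2 ⟨y, Subgroup.mem_zpowers y⟩)⟩,
      fun v => ⟨⟨v.1, v.2.1⟩, fun z => Subtype.ext ?_⟩, fun v => rfl, fun v => rfl⟩
    have hst : y ∈ MulAction.stabilizer E v.1 := v.2.2
    exact (Subgroup.zpowers_le.2 hst) z.2
  rw [hfix, hWa, hWb, ← ZMod.natCast_eq_natCast_iff, Nat.cast_pow, Nat.cast_pow] at hmod
  obtain ⟨c, rfl⟩ : ∃ c, a = b + c := ⟨a - b, by omega⟩
  have hp0 : (p : ZMod r) ≠ 0 := fun h0 => by
    rw [h0, orderOf_zero] at hord
    omega
  rw [pow_add, mul_eq_left₀ (pow_ne_zero _ hp0)] at hmod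
  have hdvd : n ∣ c := hord ▸ orderOf_dvd_of_pow_eq_one hmod
  rcases Nat.eq_zero_or_pos c with rfl | hc
  · exact Or.inl rfl
  · have := Nat.le_of_dvd hc hdvd
    exact Or.inr ⟨by omega, by omega⟩

theorem eq_one_of_fixed {v : V} (hv : y • v = v) : v = 1 := by
  have hp : p.Prime := Fact.out
  obtain ⟨a, b, ha, hb, h⟩ := card_invariant hV hord hn hy hfaith (fixSub y) fun v hv => by
    rw [mem_fixSub.1 hv]; exact hv
  rw [inf_idem, ha] at hb
  have hab := Nat.pow_right_injective hp.two_le hb
  have hb0 : a = 0 := by
    by_contra h0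
    -- `y` would fix everything
    obtain ⟨a', b', ha', hb', h'⟩ := card_invariant hV hord hn hy hfaith ⊤ fun v _ => Subgroup.mem_top _
    rw [Subgroup.card_top, hV] at ha'
    rw [top_inf_eq, ha] at hb'
    have h1 := Nat.pow_right_injective hp.two_le ha'
    have h2 := Nat.pow_right_injective hp.two_le hb'
    have htop : fixSub (V := V) y = ⊤ := Subgroup.eq_top_of_card_eq _ (by
      rw [ha, hV, show a = n by omega])
    have := hfaith y fun v => mem_fixSub.1 (htop ▸ Subgroup.mem_top v)
    rw [this, orderOf_one] at hy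
    exact (Fact.out : r.Prime).ne_one hy.symm
  rw [hb0, pow_zero, Subgroup.card_eq_one] at ha
  exact Subgroup.mem_bot.1 (ha ▸ mem_fixSub.2 hv)

theorem eq_bot_or_top (W : Subgroup V) (hW : ∀ v ∈ W, y • v ∈ W) : W = ⊥ ∨ W = ⊤ := by
  obtain ⟨a, b, ha, hb, h⟩ := card_invariant hV hord hn hy hfaith W hW
  have hb0 : W ⊓ fixSub y = ⊥ := eq_bot_iff.2 fun v hv =>
    Subgroup.mem_bot.2 (eq_one_of_fixed hV hord hn hy hfaith hv.2)
  rw [hb0, Subgroup.card_bot, eq_comm, Nat.pow_eq_one] at hb
  have hb0 : b = 0 := hb.resolve_left (Fact.out : p.Prime).ne_one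
  rcases h with h | ⟨h, -⟩
  · exact Or.inl (Subgroup.card_eq_one.1 (by rw [ha, h, hb0, pow_zero]))
  · exact Or.inr (Subgroup.eq_top_of_card_eq W (by rw [ha, hV, h]))

end Element

/-- The action as endomorphisms. -/
def actEnd (E V : Type*) [Group E] [CommGroup V] [MulDistribMulAction E V] :
    E →* AddMonoid.End (Additive V) where
  toFun g := MonoidHom.toAdditive (MulDistribMulAction.toMonoidHom V g)
  map_one' := AddMonoidHom.ext fun v => congrArg Additive.ofMul (one_smul E v.toMul)
  map_mul' g h := AddMonoidHom.ext fun v => congrArg Additive.ofMul (mul_smul g h v.toMul)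

theorem actEnd_apply (g : E) (v : Additive V) : actEnd E V g v = Additive.ofMul (g • v.toMul) := rfl

theorem actEnd_injective (hfaith : ∀ g : E, (∀ v : V, g • v = v) → g = 1) :
    Function.Injective (actEnd E V) := fun g h e => by
  have : ∀ v : V, (g⁻¹ * h) • v = v := fun v => by
    have h1 : g • v = h • v := congrArg Additive.toMul (DFunLike.congr_fun e (Additive.ofMul v))
    rw [mul_smul, ← h1, inv_smul_smul]
  exact eq_of_inv_mul_eq_one (hfaith _ this)

/-- The ring of endomorphisms commuting with `y`. -/
abbrev Commutant (E V : Type*) [Group E] [CommGroup V] [MulDistribMulAction E V] (y : E) :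
    Subring (AddMonoid.End (Additive V)) :=
  Subring.centralizer {actEnd E V y}

section Field

variable {p : ℕ} [Fact p.Prime] {n : ℕ} (hV : Nat.card V = p ^ n)
  {r : ℕ} [Fact r.Prime] (hord : orderOf (p : ZMod r) = n) (hn : 0 < n)
  {y : E} (hy : orderOf y = r) (hfaith : ∀ g : E, (∀ v : V, g • v = v) → g = 1)
include hV hord hn hy hfaith

theorem injective_of_ne_zero (k : Commutant E V y) (hk : k ≠ 0) :
    Function.Injective (k : AddMonoid.End (Additive V)) := by
  let W : Subgroup V :=
    { carrier := {v | (k : AddMonoid.End (Additive V)) (Additive.ofMul v) = 0}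
      one_mem' := map_zero (k : AddMonoid.End (Additive V))
      mul_mem' := fun {a b} (ha : (k : AddMonoid.End (Additive V)) (Additive.ofMul a) = 0)
        (hb : (k : AddMonoid.End (Additive V)) (Additive.ofMul b) = 0) => by
        show (k : AddMonoid.End (Additive V)) (Additive.ofMul a + Additive.ofMul b) = 0
        rw [map_add, ha, hb, add_zero]
      inv_mem' := fun {a} (ha : (k : AddMonoid.End (Additive V)) (Additive.ofMul a) = 0) => by
        show (k : AddMonoid.End (Additive V)) (-Additive.ofMul a) = 0
        rw [map_neg, ha, neg_zero] }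
  have hW : ∀ v ∈ W, y • v ∈ W := fun v (hv : _ = 0) => by
    show (k : AddMonoid.End (Additive V)) (actEnd E V y (Additive.ofMul v)) = 0
    have hc := DFunLike.congr_fun (Subring.mem_centralizer_iff.1 k.2 _ rfl) (Additive.ofMul v)
    exact hc.symm.trans ((congrArg (actEnd E V y) hv).trans (map_zero _))
  rcases eq_bot_or_top hV hord hn hy hfaith W hW with h | h
  · rw [injective_iff_map_eq_zero]
    intro v hv
    have hvW : Additive.toMul v ∈ W := hv
    rw [h, Subgroup.mem_bot] at hvW
    exact congrArg Additive.ofMul hvW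
  · refine absurd (Subtype.ext (AddMonoidHom.ext fun v => ?_)) hk
    have hvW : Additive.toMul v ∈ W := h ▸ Subgroup.mem_top (Additive.toMul v)
    exact hvW

theorem finite_commutant : Finite (Commutant E V y) :=
  Finite.of_injective (fun k => ((k : AddMonoid.End (Additive V)) : Additive V → Additive V))
    fun _ _ h => Subtype.ext (DFunLike.coe_injective h)

theorem isDomain_commutant : IsDomain (Commutant E V y) := by
  haveI : Nontrivial V := Finite.one_lt_card_iff_nontrivial.1
    (by rw [hV]; exact Nat.one_lt_pow hn.ne' (Fact.out : p.Prime).one_lt)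
  haveI : Nontrivial (Commutant E V y) := ⟨1, 0, fun h => by
    obtain ⟨v, hv⟩ := exists_ne (1 : V)
    exact hv (congrArg (fun k : Commutant E V y =>
      Additive.toMul ((k : AddMonoid.End (Additive V)) (Additive.ofMul v))) h)⟩
  haveI : NoZeroDivisors (Commutant E V y) := ⟨fun {a b} hab => by
    by_contra hno
    push Not at hno
    refine hno.2 (Subtype.ext (AddMonoidHom.ext fun v => ?_))
    refine injective_of_ne_zero hV hord hn hy hfaith a hno.1 ?_
    exact (DFunLike.congr_fun (congrArg Subtype.val hab) v).trans (map_zero _).symm⟩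
  exact NoZeroDivisors.to_isDomain _

/-- The centralizer of `y` is cyclic. -/
theorem isCyclic_centralizer : IsCyclic (Subgroup.centralizer ({y} : Set E)) := by
  haveI := finite_commutant hV hord hn hy hfaith
  haveI := isDomain_commutant hV hord hn hy hfaith
  letI : CommRing (Commutant E V y) :=
    { (inferInstance : Ring (Commutant E V y)) with
      mul_comm := (Finite.isDomain_to_isField (Commutant E V y)).mul_comm }
  let f : Subgroup.centralizer ({y} : Set E) →* Commutant E V y :=
    { toFun := fun g => ⟨actEnd E V g, Subring.mem_centralizer_iff.2 fun a ha => by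
        rw [Set.mem_singleton_iff.1 ha, ← map_mul, ← map_mul,
          Subgroup.mem_centralizer_singleton_iff.1 g.2]⟩
      map_one' := Subtype.ext (map_one (actEnd E V))
      map_mul' := fun g h => Subtype.ext (map_mul (actEnd E V) (g : E) (h : E)) }
  exact isCyclic_of_injective_ringHom f fun a b h =>
    Subtype.ext (actEnd_injective hfaith (congrArg Subtype.val h))

/-- The powers of `y` conjugate to `y` are at most `n`. -/
theorem pred_le_of_conj (hexp : ∀ v : V, v ^ p = 1)
    (hconj : ∀ i, 0 < i → i < r → IsConj y (y ^ i)) : r - 1 ≤ n := by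
  classical
  haveI := finite_commutant hV hord hn hy hfaith
  haveI := isDomain_commutant hV hord hn hy hfaith
  letI : CommRing (Commutant E V y) :=
    { (inferInstance : Ring (Commutant E V y)) with
      mul_comm := (Finite.isDomain_to_isField (Commutant E V y)).mul_comm }
  letI : Fintype (Commutant E V y) := Fintype.ofFinite _
  have hchar : (p : Commutant E V y) = 0 := Subtype.ext (AddMonoidHom.ext fun v => by
    show ((p : Commutant E V y) : AddMonoid.End (Additive V)) v = 0
    rw [SubringClass.coe_natCast, AddMonoid.End.natCast_apply]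
    exact congrArg Additive.ofMul (hexp v.toMul))
  haveI : CharP (Commutant E V y) p :=
    (CharP.charP_iff_prime_eq_zero Fact.out).2 hchar
  letI : Algebra (ZMod p) (Commutant E V y) := ZMod.algebra _ p
  set η : Commutant E V y := ⟨actEnd E V y, Subring.mem_centralizer_iff.2 fun a ha => by
    rw [Set.mem_singleton_iff.1 ha]⟩ with hη
  set P := minpoly (ZMod p) η with hP
  have hP0 : P ≠ 0 := minpoly.ne_zero (Algebra.IsIntegral.isIntegral η)
  have hdeg : P.natDegree ≤ n := by
    refine (minpoly.natDegree_le η).trans ?_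
    have hc : Nat.card (Commutant E V y) ≤ Nat.card V := by
      obtain ⟨v, hv⟩ := Finite.one_lt_card_iff_nontrivial.1
        (show 1 < Nat.card V by rw [hV]; exact Nat.one_lt_pow hn.ne' (Fact.out : p.Prime).one_lt)
        |>.exists_pair_ne
      refine Nat.card_le_card_of_injective (fun k =>
        Additive.toMul ((k : AddMonoid.End (Additive V)) (Additive.ofMul (v * hv.choose⁻¹)))) ?_
      intro a b h
      by_contra hne
      have h0 : (a - b) ≠ 0 := sub_ne_zero.2 hne
      have h1 : ((a - b : Commutant E V y) : AddMonoid.End (Additive V))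
          (Additive.ofMul (v * hv.choose⁻¹)) = ((a - b : Commutant E V y) :
            AddMonoid.End (Additive V)) 0 := by
        rw [map_zero, AddSubgroupClass.coe_sub]
        show (a : AddMonoid.End (Additive V)) _ - (b : AddMonoid.End (Additive V)) _ = 0
        rw [sub_eq_zero]
        exact Additive.toMul.injective h
      exact hv.choose_spec (mul_inv_eq_one.1
        (congrArg Additive.toMul (injective_of_ne_zero hV hord hn hy hfaith _ h0 h1)))
    rw [Module.natCard_eq_pow_finrank (K := ZMod p), Nat.card_zmod, hV] at hc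
    exact (Nat.pow_le_pow_iff_right (Fact.out : p.Prime).one_lt).1 hc
  -- conjugation by an element moving `y` to a power
  have hroot : ∀ i, 0 < i → i < r → η ^ i ∈ P.aroots (Commutant E V y) := by
    intro i hi hir
    obtain ⟨g, hg⟩ := isConj_iff.1 (hconj i hi hir)
    obtain ⟨j, hij⟩ : ∃ j, y = (y ^ i) ^ j := by
      have hgcd : Nat.Coprime i r := ((Fact.out : r.Prime).coprime_iff_not_dvd.2 fun h =>
        (Nat.le_of_dvd hi h).not_gt hir).symm
      obtain ⟨j, hj⟩ := exists_pow_eq_self_of_coprime (x := y) (hy ▸ hgcd)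
      exact ⟨j, hj.symm⟩
    let cg : AddMonoid.End (Additive V) →+* AddMonoid.End (Additive V) :=
      { toFun := fun k => actEnd E V g * k * actEnd E V g⁻¹
        map_one' := by rw [mul_one, ← map_mul, mul_inv_cancel, map_one]
        map_mul' := fun a b => by
          rw [show actEnd E V g * a * actEnd E V g⁻¹ * (actEnd E V g * b * actEnd E V g⁻¹) =
            actEnd E V g * a * (actEnd E V g⁻¹ * actEnd E V g) * b * actEnd E V g⁻¹ by noncomm_ring,
            ← map_mul, inv_mul_cancel, map_one, mul_one, mul_assoc (actEnd E V g) a b]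
        map_zero' := by rw [mul_zero, zero_mul]
        map_add' := fun a b => by rw [mul_add, add_mul] }
    have hcgy : cg (actEnd E V y) = actEnd E V (y ^ i) := by
      show actEnd E V g * _ * _ = _
      rw [← map_mul, ← map_mul, hg]
    have hmem : ∀ k : Commutant E V y, cg k ∈ Commutant E V y := fun k => by
      refine Subring.mem_centralizer_iff.2 fun a ha => ?_
      rw [Set.mem_singleton_iff.1 ha]
      have hc : Commute (actEnd E V (y ^ i)) (cg k) := by
        rw [← hcgy]
        exact (show Commute (actEnd E V y) (k : AddMonoid.End (Additive V)) from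
          Subring.mem_centralizer_iff.1 k.2 _ rfl).map cg
      have := hc.pow_left j
      rwa [← map_pow, ← hij] at this
    let σ : Commutant E V y →+* Commutant E V y :=
      (cg.comp (Commutant E V y).subtype).codRestrict _ hmem
    have hση : σ η = η ^ i := Subtype.ext (by
      show cg (actEnd E V y) = ((η ^ i : Commutant E V y) : AddMonoid.End (Additive V))
      rw [hcgy, map_pow, SubmonoidClass.coe_pow])
    rw [Polynomial.mem_aroots]
    refine ⟨hP0, ?_⟩
    rw [← hση, Polynomial.aeval_def, Subsingleton.elim (algebraMap (ZMod p) (Commutant E V y))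
      (σ.comp (algebraMap (ZMod p) (Commutant E V y))), ← Polynomial.hom_eval₂,
      ← Polynomial.aeval_def, minpoly.aeval, map_zero]
  have hinj : Set.InjOn (fun i => η ^ i) (Finset.Ico 1 r : Set ℕ) := by
    intro i hi j hj e
    have he := congrArg Subtype.val e
    simp only [SubmonoidClass.coe_pow, hη, ← map_pow] at he
    have := actEnd_injective hfaith he
    simp only [Finset.coe_Ico, Set.mem_Ico] at hi hj
    exact pow_injOn_Iio_orderOf (by rw [hy]; exact hi.2) (by rw [hy]; exact hj.2) this
  calc r - 1 = ((Finset.Ico 1 r).image fun i => η ^ i).card := by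
        rw [Finset.card_image_of_injOn hinj, Nat.card_Ico]
    _ ≤ (P.aroots (Commutant E V y)).toFinset.card := Finset.card_le_card fun x hx => by
        obtain ⟨i, hi, rfl⟩ := Finset.mem_image.1 hx
        rw [Finset.mem_Ico] at hi
        exact Multiset.mem_toFinset.2 (hroot i hi.1 hi.2)
    _ ≤ Multiset.card (P.aroots (Commutant E V y)) := Multiset.toFinset_card_le _
    _ ≤ P.natDegree := (Polynomial.card_roots' _).trans Polynomial.natDegree_map_le
    _ ≤ n := hdeg

end Field

theorem card_dvd_card_GL_aux {W : Type*} [AddCommGroup W] [Finite W] {p n : ℕ} [Fact p.Prime]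
    [Module (ZMod p) W] (hW : Nat.card W = p ^ n) (A : E →* AddMonoid.End W)
    (hA : Function.Injective A) : Nat.card E ∣ ∏ i : Fin n, (p ^ n - p ^ (i : ℕ)) := by
  classical
  haveI : Module.Finite (ZMod p) W := Module.Finite.of_finite
  have hdim : Module.finrank (ZMod p) W = n := by
    have h3 := Module.natCard_eq_pow_finrank (K := ZMod p) (V := W)
    rw [Nat.card_zmod, hW] at h3
    exact (Nat.pow_right_injective (Fact.out : p.Prime).two_le h3).symm
  let B := Module.finBasisOfFinrankEq (ZMod p) W hdim
  let L : E →* Module.End (ZMod p) W :=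
    { toFun := fun g => AddMonoidHom.toZModLinearMap p (A g : W →+ W)
      map_one' := LinearMap.ext fun v => DFunLike.congr_fun (map_one A) v
      map_mul' := fun g h => LinearMap.ext fun v => DFunLike.congr_fun (map_mul A g h) v }
  let ψ : E →* GL (Fin n) (ZMod p) :=
    (((LinearMap.toMatrixAlgEquiv B).toAlgHom : _ →ₐ[ZMod p] _).toRingHom.toMonoidHom.comp
      L).toHomUnits
  have hψ : Function.Injective ψ := fun g h e => by
    refine hA (AddMonoidHom.ext fun v => ?_)
    have h1 := congrArg (fun u : GL (Fin n) (ZMod p) => (u : Matrix (Fin n) (Fin n) (ZMod p))) e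
    exact DFunLike.congr_fun ((LinearMap.toMatrixAlgEquiv B).injective h1) v
  have := Subgroup.card_dvd_of_injective ψ hψ
  rwa [Matrix.card_GL_field, ZMod.card] at this

/-- The order divides that of the general linear group. -/
theorem card_dvd_card_GL {p n : ℕ} [Fact p.Prime] (hV : Nat.card V = p ^ n)
    (hexp : ∀ v : V, v ^ p = 1) (hfaith : ∀ g : E, (∀ v : V, g • v = v) → g = 1) :
    Nat.card E ∣ ∏ i : Fin n, (p ^ n - p ^ (i : ℕ)) := by
  letI : Module (ZMod p) (Additive V) := AddCommGroup.zmodModule fun v =>
    congrArg Additive.ofMul (hexp v.toMul)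
  exact card_dvd_card_GL_aux (W := Additive V) hV (actEnd E V) (actEnd_injective hfaith)

end CfsgLib.HeightZeroThree
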