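import Cfsg.Agent.HeightZeroThree.Arith
import Cfsg.Agent.HeightZeroThree.Irreducible
import Cfsg.Agent.Zsigmondy.Basic
import Mathlib.GroupTheory.Sylow
import Mathlib.GroupTheory.QuotientGroup.Basic

/-!
# Transitive coprime linear groups with square point stabilizers

Let `E` be a `p'`-group, `p` odd, acting faithfully and transitively on `V \ {1}` for a `p`-group
`V`, with point stabilizers of square order. Suppose there is `y ≠ 1` such that all nontrivial
elements with cyclic centralizer are conjugate to `y`, and `|E| = d ^ 2 (u ^ 2 + w ^ 2)` with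
`u ^ 2 + w ^ 2` dividing the order of the centralizer of `y`. Then `|V| ≤ 3`.
-/

set_option autoImplicit false
set_option linter.unusedSectionVars false

namespace CfsgLib.HeightZeroThree

variable {E V : Type*} [Group E] [Finite E] [CommGroup V] [Finite V] [MulDistribMulAction E V]

/-- Conjugates of `y` correspond to the cosets of its centralizer. -/
noncomputable def conjEquiv (y : E) :
    E ⧸ Subgroup.centralizer ({y} : Set E) ≃ {x : E // IsConj y x} :=
  Equiv.ofBijective
    (Quotient.lift (fun g : E => (⟨g * y * g⁻¹, isConj_iff.2 ⟨g, rfl⟩⟩ : {x : E // IsConj y x}))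
      fun a b h => by
        have h1 := Subgroup.mem_centralizer_singleton_iff.1 (QuotientGroup.leftRel_apply.1 h)
        apply Subtype.ext
        show a * y * a⁻¹ = b * y * b⁻¹
        calc a * y * a⁻¹ = a * y * (a⁻¹ * b) * b⁻¹ := by group
          _ = a * (y * (a⁻¹ * b)) * b⁻¹ := by group
          _ = a * ((a⁻¹ * b) * y) * b⁻¹ := by rw [h1]
          _ = b * y * b⁻¹ := by group)
    ⟨fun q q' => Quotient.inductionOn₂ q q' fun a b h => by
        have h1 : a * y * a⁻¹ = b * y * b⁻¹ := congrArg Subtype.val h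
        refine Quotient.sound (QuotientGroup.leftRel_apply.2
          (Subgroup.mem_centralizer_singleton_iff.2 ?_))
        calc a⁻¹ * b * y = a⁻¹ * (b * y * b⁻¹) * b := by group
          _ = a⁻¹ * (a * y * a⁻¹) * b := by rw [h1]
          _ = y * (a⁻¹ * b) := by group,
      fun ⟨x, hx⟩ => (isConj_iff.1 hx).elim fun g hg => ⟨QuotientGroup.mk g, Subtype.ext hg⟩⟩

theorem natCard_conj (y : E) :
    Nat.card {x : E // IsConj y x} = (Subgroup.centralizer ({y} : Set E)).index :=
  (Nat.card_congr (conjEquiv y)).symm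

theorem orderOf_eq_of_isConj {y x : E} (h : IsConj y x) : orderOf x = orderOf y := by
  obtain ⟨g, rfl⟩ := isConj_iff.1 h
  exact orderOf_injective (MulAut.conj g).toMonoidHom (MulAut.conj g).injective y

variable (E V) in
/-- The hypotheses on the action. -/
structure Hyp (p n : ℕ) (y : E) (g d u w : ℕ) : Prop where
  hV : Nat.card V = p ^ n
  p_prime : p.Prime
  p_odd : p ≠ 2
  coprime : ¬ p ∣ Nat.card E
  faith : ∀ g : E, (∀ v : V, g • v = v) → g = 1
  trans : ∀ v w : V, v ≠ 1 → w ≠ 1 → ∃ g : E, g • v = w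
  exp : ∀ v : V, v ^ p = 1
  card_eq : Nat.card E = (p ^ n - 1) * g ^ 2
  y_ne : y ≠ 1
  cyc : ∀ x : E, x ≠ 1 → IsCyclic (Subgroup.centralizer ({x} : Set E)) → IsConj y x
  d_ne : d ≠ 0
  u_ne : u ≠ 0
  w_ne : w ≠ 0
  card_eq' : Nat.card E = d ^ 2 * (u ^ 2 + w ^ 2)
  dvd_cent : (u ^ 2 + w ^ 2) ∣ Nat.card (Subgroup.centralizer ({y} : Set E))

theorem pow_eq_one_of_trans {p : ℕ} [Fact p.Prime] (hV : IsPGroup p V)
    (htrans : ∀ v w : V, v ≠ 1 → w ≠ 1 → ∃ g : E, g • v = w) (v : V) : v ^ p = 1 := by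
  by_cases hv : v = 1
  · rw [hv, one_pow]
  haveI : Nontrivial V := ⟨v, 1, hv⟩
  obtain ⟨a, ha, hVa⟩ := hV.nontrivial_iff_card.1 inferInstance
  obtain ⟨v₀, hv₀⟩ := exists_prime_orderOf_dvd_card' p
    (show p ∣ Nat.card V from hVa ▸ dvd_pow_self p ha.ne')
  have hv₀1 : v₀ ≠ 1 := fun h => by
    rw [h, orderOf_one] at hv₀
    exact (Fact.out : p.Prime).ne_one hv₀.symm
  obtain ⟨g, rfl⟩ := htrans v₀ v hv₀1 hv
  rw [← smul_pow', ← hv₀, pow_orderOf_eq_one, smul_one]

theorem card_eq_mul_stabilizer (htrans : ∀ v w : V, v ≠ 1 → w ≠ 1 → ∃ g : E, g • v = w)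
    {v : V} (hv : v ≠ 1) :
    Nat.card E = (Nat.card V - 1) * Nat.card (MulAction.stabilizer E v) := by
  have horb : MulAction.orbit E v = ({1} : Set V)ᶜ := by
    ext w
    constructor
    · rintro ⟨g, rfl⟩ h
      exact hv (smul_left_cancel g ((Set.mem_singleton_iff.1 h).trans (smul_one g).symm))
    · exact fun hw => htrans v w hv hw
  rw [← Subgroup.index_mul_card (MulAction.stabilizer E v), MulAction.index_stabilizer, horb,
    Set.ncard_compl, Set.ncard_singleton]

section Cases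

variable {p n : ℕ} {y : E} {g d u w : ℕ} (H : Hyp E V p n y g d u w)
include H

theorem one_le : 1 ≤ n := by
  rcases Nat.eq_zero_or_pos n with rfl | h
  · haveI := (Nat.card_eq_one_iff_unique.1 (H.hV.trans (pow_zero p))).1
    exact absurd (H.faith y fun v => Subsingleton.elim _ _) H.y_ne
  · exact h

/-- The case of a cyclic group `V`. -/
theorem le_three_of_one (hn : n = 1) : p ≤ 3 := by
  subst hn
  haveI : Fact p.Prime := ⟨H.p_prime⟩
  have hV : Nat.card V = p := H.hV.trans (pow_one p)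
  haveI : Nontrivial V := Finite.one_lt_card_iff_nontrivial.1 (hV ▸ H.p_prime.one_lt)
  obtain ⟨v, hv⟩ := exists_ne (1 : V)
  have hgen : ∀ w : V, ∃ k : ℤ, v ^ k = w := fun w =>
    Subgroup.mem_zpowers_iff.1 ((zpowers_eq_top_of_prime_card hV hv).symm ▸ Subgroup.mem_top w)
  have hcomm : ∀ a b : E, a * b = b * a := by
    intro a b
    obtain ⟨k, hk⟩ := hgen (a • v)
    obtain ⟨l, hl⟩ := hgen (b • v)
    refine eq_of_inv_mul_eq_one (a := a * b) (b := b * a) (H.faith _ fun w => ?_)
    obtain ⟨j, rfl⟩ := hgen w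
    have : (b * a) • v = (a * b) • v := by
      rw [mul_smul, mul_smul, ← hk, ← hl, smul_zpow', smul_zpow', ← hl, ← hk, ← zpow_mul,
        ← zpow_mul, mul_comm]
    rw [smul_zpow', mul_smul, this, inv_smul_smul]
  have hg : g = 1 := by
    have hst : MulAction.stabilizer E v = ⊥ := eq_bot_iff.2 fun a ha =>
      Subgroup.mem_bot.2 (H.faith a fun w => by
        obtain ⟨j, rfl⟩ := hgen w
        rw [smul_zpow', MulAction.mem_stabilizer_iff.1 ha])
    have h1 := card_eq_mul_stabilizer H.trans hv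
    rw [hst, Subgroup.card_bot, hV, H.card_eq, pow_one] at h1
    have := Nat.eq_of_mul_eq_mul_left (by have := H.p_prime.two_le; omega) h1
    exact (Nat.pow_eq_one.1 this).resolve_right (by norm_num)
  have hcard : Nat.card E = p - 1 := by rw [H.card_eq, hg, pow_one, one_pow, mul_one]
  have htop : ∀ x : E, Subgroup.centralizer ({x} : Set E) = ⊤ := fun x =>
    eq_top_iff.2 fun a _ => Subgroup.mem_centralizer_singleton_iff.2 (hcomm a x)
  obtain ⟨r, hr, hrdvd⟩ := Nat.exists_prime_and_dvd (n := Nat.card E) fun h => H.y_ne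
    (haveI := (Nat.card_eq_one_iff_unique.1 h).1; Subsingleton.elim _ _)
  haveI : Fact r.Prime := ⟨hr⟩
  obtain ⟨z, hz⟩ := exists_prime_orderOf_dvd_card' r hrdvd
  have hord : orderOf (p : ZMod r) = 1 := by
    rw [orderOf_eq_one_iff, ← Nat.cast_one, ZMod.natCast_eq_natCast_iff]
    exact ((Nat.modEq_iff_dvd' H.p_prime.one_le).2 (hcard ▸ hrdvd)).symm
  have hcyc := isCyclic_centralizer H.hV hord Nat.one_pos hz H.faith
  rw [htop z] at hcyc
  have hall : ∀ x : E, x ≠ 1 → x = y := fun x hx => by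
    obtain ⟨a, ha⟩ := isConj_iff.1 (H.cyc x hx ((htop x).symm ▸ hcyc))
    rw [← ha, hcomm a y, mul_inv_cancel_right]
  have h2 : Nat.card E ≤ 2 := by
    classical
    refine (Nat.card_le_card_of_injective (fun x : E => decide (x = 1)) fun a b h => ?_).trans
      (by simp)
    by_cases ha : a = 1
    · rw [ha] at h
      simp only [decide_true, true_eq_decide_iff] at h
      rw [ha, h]
    · have hb : b ≠ 1 := fun hb => by simp [ha, hb] at h
      rw [hall a ha, hall b hb]
  omega

/-- For `n = 2` and `p + 1` a power of two, `p = 3`. -/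
theorem eq_three_of_mersenne (hn : n = 2) (hm : ∃ m : ℕ, p + 1 = 2 ^ m) : p = 3 := by
  obtain ⟨m, hm⟩ := hm
  have hp2 := H.p_prime.two_le
  have hpo := H.p_odd
  by_contra hp3
  rcases Nat.lt_or_ge m 3 with hlt | hge
  · interval_cases m <;> omega
  obtain ⟨j, rfl⟩ : ∃ j, m = j + 3 := ⟨m - 3, by omega⟩
  have hc : Nat.card E ≠ 0 := Nat.card_pos.ne'
  have hg0 : g ≠ 0 := fun h => hc (by rw [H.card_eq, h]; ring)
  obtain ⟨e, o, ho, hg⟩ := Nat.exists_eq_two_pow_mul_odd hg0
  set T := 2 ^ (j + 2) with hT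
  have hT4 : 4 ∣ T := ⟨2 ^ j, by rw [hT]; ring⟩
  have hp' : p + 1 = 2 * T := by rw [hm, hT]; ring
  have hsum : 2 ^ (j + 4 + 2 * e) * ((T - 1) * o ^ 2) = (d * u) ^ 2 + (d * w) ^ 2 := by
    have h1 : p ^ n - 1 = 2 ^ (j + 4) * (T - 1) := by
      rw [hn, show (p ^ 2 : ℕ) - 1 = (p + 1) * (p - 1) by
          rw [← Nat.sq_sub_sq, one_pow],
        show p - 1 = 2 * (T - 1) by omega, hm]
      ring
    calc _ = (p ^ n - 1) * g ^ 2 := by rw [h1, hg]; ring
      _ = Nat.card E := H.card_eq.symm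
      _ = _ := by rw [H.card_eq']; ring
  obtain ⟨i, rfl⟩ := ho
  obtain ⟨c, hc⟩ := hT4
  have hT1 : 1 ≤ T := Nat.one_le_two_pow
  obtain ⟨c, rfl⟩ : ∃ c', c = c' + 1 := ⟨c - 1, by omega⟩
  have hb : (T - 1) * (2 * i + 1) ^ 2 = 4 * ((c * (2 * i + 1) ^ 2) + 3 * (i * i + i)) + 3 := by
    rw [show T - 1 = 4 * c + 3 by omega]; ring
  have := odd_part_mod_four _ _ _ _ (by rw [hb]; omega) hsum
  rw [hb] at this
  omega

/-- `p ^ n = 9` is impossible. -/
theorem not_nine (hp : p = 3) (hn : n = 2) : False := by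
  subst hp hn
  haveI : Fact (Nat.Prime 3) := ⟨by norm_num⟩
  classical
  -- the order is eight
  have hdvd := card_dvd_card_GL H.hV H.exp H.faith
  rw [Fin.prod_univ_two, H.card_eq] at hdvd
  have hg2 : g ^ 2 ∣ 6 := (Nat.mul_dvd_mul_iff_left (by norm_num : 0 < 8)).1 (by simpa using hdvd)
  have hg : g = 1 := by
    have := Nat.le_of_dvd (by norm_num) hg2
    have : g ≤ 2 := by nlinarith
    interval_cases g <;> simp_all
  have hcard : Nat.card E = 8 := by rw [H.card_eq, hg]; norm_num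
  -- point stabilizers are trivial, so involutions invert
  have hreg : ∀ (v : V) (a : E), v ≠ 1 → a • v = v → a = 1 := by
    intro v a hv ha
    have h1 := card_eq_mul_stabilizer H.trans hv
    rw [hcard, H.hV] at h1
    have h2 : Nat.card (MulAction.stabilizer E v) = 1 := by simp only [show (3 : ℕ) ^ 2 - 1 = 8 from rfl] at h1; omega
    exact Subgroup.mem_bot.1 ((Subgroup.card_eq_one.1 h2) ▸ MulAction.mem_stabilizer_iff.2 ha)
  have hinv : ∀ a : E, a ≠ 1 → a ^ 2 = 1 → ∀ v : V, a • v = v⁻¹ := by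
    intro a ha ha2 v
    have hfix : a • (v * a • v) = v * a • v := by
      rw [smul_mul', smul_smul, ← pow_two, ha2, one_smul, mul_comm]
    by_cases h : v * a • v = 1
    · exact eq_inv_of_mul_eq_one_right h
    · exact absurd (hreg _ a h hfix) ha
  have huniq : ∀ a b : E, a ≠ 1 → a ^ 2 = 1 → b ≠ 1 → b ^ 2 = 1 → a = b := by
    intro a b ha ha2 hb hb2
    refine eq_of_inv_mul_eq_one (H.faith _ fun v => ?_)
    rw [mul_smul, hinv b hb hb2, ← hinv a ha ha2, inv_smul_smul]
  have hord : ∀ x : E, x ^ 2 ≠ 1 → orderOf x = 4 ∨ orderOf x = 8 := by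
    intro x hx
    have hdv : orderOf x ∣ 2 ^ 3 := (orderOf_dvd_natCard x).trans (dvd_of_eq hcard)
    obtain ⟨k, hk, hkx⟩ := (Nat.dvd_prime_pow Nat.prime_two (m := 3)).1
      hdv
    have h2 : ¬ orderOf x ∣ 2 := fun h => hx (orderOf_dvd_iff_pow_eq_one.1 h)
    rw [hkx] at h2 ⊢
    interval_cases k <;> simp at h2 ⊢
  -- an element of order at least four has cyclic centralizer
  have hcyc : ∀ x : E, x ^ 2 ≠ 1 → IsCyclic (Subgroup.centralizer ({x} : Set E)) := by
    intro x hx
    by_cases h8 : ∃ z : E, orderOf z = 8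
    · obtain ⟨z, hz⟩ := h8
      haveI : IsCyclic E := isCyclic_of_orderOf_eq_card z (hz.trans hcard.symm)
      infer_instance
    push Not at h8
    have h4 : ∀ z : E, z ^ 2 ≠ 1 → orderOf z = 4 := fun z hz =>
      (hord z hz).resolve_right (h8 z)
    have hle : Subgroup.zpowers x ≤ Subgroup.centralizer ({x} : Set E) :=
      Subgroup.zpowers_le.2 (Subgroup.mem_centralizer_singleton_iff.2 rfl)
    suffices h : Subgroup.centralizer ({x} : Set E) = Subgroup.zpowers x by
      rw [h]; infer_instance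
    refine le_antisymm (fun z hz => ?_) hle
    by_contra hzx
    have hzc : Commute z x := Subgroup.mem_centralizer_singleton_iff.1 hz
    have ht2 : ∀ a : E, a ^ 2 ≠ 1 → (a ^ 2) ^ 2 = 1 := fun a ha => by
      rw [← pow_mul, show 2 * 2 = orderOf a from (h4 a ha).symm]
      exact pow_orderOf_eq_one a
    have hmem : x ^ 2 ∈ Subgroup.zpowers x := pow_mem (Subgroup.mem_zpowers x) 2
    by_cases hz2 : z ^ 2 = 1
    · by_cases hz1 : z = 1
      · exact hzx (hz1 ▸ one_mem _)
      · exact hzx (huniq _ _ hz1 hz2 hx (ht2 x hx) ▸ hmem)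
    · have hzt : z ^ 2 = x ^ 2 := huniq _ _ hz2 (ht2 z hz2) hx (ht2 x hx)
      have hq : (z * x⁻¹) ^ 2 = 1 := by
        rw [hzc.inv_right.mul_pow, hzt, inv_pow, mul_inv_cancel]
      by_cases hq1 : z * x⁻¹ = 1
      · exact hzx (mul_inv_eq_one.1 hq1 ▸ Subgroup.mem_zpowers x)
      · have := huniq _ _ hq1 hq hx (ht2 x hx)
        rw [mul_inv_eq_iff_eq_mul] at this
        exact hzx (this ▸ mul_mem hmem (Subgroup.mem_zpowers x))
  -- there are six of them in one class
  obtain ⟨x, hx⟩ : ∃ x : E, x ^ 2 ≠ 1 := by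
    by_contra hall
    push Not at hall
    haveI : Nontrivial E := ⟨y, 1, H.y_ne⟩
    have h2 : Nat.card E ≤ 2 := (Nat.card_le_card_of_injective (fun a : E => decide (a = 1))
      fun a b h => by
        by_cases ha : a = 1
        · by_contra hb
          simp [ha, Ne.symm (ha ▸ hb)] at h
        · have hb : b ≠ 1 := fun hb => by simp [ha, hb] at h
          exact huniq a b ha (hall a) hb (hall b)).trans (by simp)
    omega
  have hx1 : x ≠ 1 := fun h => hx (by rw [h, one_pow])
  have hyx : IsConj y x := H.cyc x hx1 (hcyc x hx)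
  have hy4 : 4 ≤ Nat.card (Subgroup.centralizer ({y} : Set E)) := by
    calc 4 ≤ Nat.card (Subgroup.zpowers y) := by
          rw [Nat.card_zpowers, ← orderOf_eq_of_isConj hyx]
          rcases hord x hx with h | h <;> omega
      _ ≤ _ := Subgroup.card_le_of_le
          (Subgroup.zpowers_le.2 (Subgroup.mem_centralizer_singleton_iff.2 rfl))
  have hidx : Nat.card {x : E // IsConj y x} ≤ 2 := by
    rw [natCard_conj]
    have h1 := Subgroup.index_mul_card (Subgroup.centralizer ({y} : Set E))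
    rw [hcard] at h1
    nlinarith
  have hsix : 6 ≤ Nat.card {x : E // IsConj y x} := by
    have h1 : Nat.card {a : E // ¬ a ^ 2 = 1} ≤ Nat.card {x : E // IsConj y x} :=
      Nat.card_le_card_of_injective
        (fun a => ⟨a.1, H.cyc a.1 (fun h => a.2 (by rw [h, one_pow])) (hcyc a.1 a.2)⟩)
        fun a b h => Subtype.ext (congrArg (fun z : {x : E // IsConj y x} => (z : E)) h)
    have h2 : Nat.card {a : E // a ^ 2 = 1} ≤ 2 :=
      (Nat.card_le_card_of_injective (fun a : {a : E // a ^ 2 = 1} => decide (a.1 = 1))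
        fun a b h => Subtype.ext (by
          by_cases ha : a.1 = 1
          · by_contra hb
            simp [ha, Ne.symm (ha ▸ hb)] at h
          · have hb : b.1 ≠ 1 := fun hb => by simp [ha, hb] at h
            exact huniq _ _ ha a.2 hb b.2)).trans (by simp)
    have h3 := Nat.card_congr (Equiv.sumCompl fun a : E => a ^ 2 = 1)
    rw [Nat.card_sum, hcard] at h3
    omega
  omega

/-- The centralizer of an element of primitive prime order has that order, and `u ^ 2 + w ^ 2`
is this prime. -/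
theorem primitive_data (hn : 0 < n) {r : ℕ} (hr : r.Prime) (hord : orderOf (p : ZMod r) = n) :
    orderOf y = r ∧ Nat.card (Subgroup.centralizer ({y} : Set E)) = r ∧
      (∀ x : E, orderOf x = r → IsConj y x) ∧
      (∀ x : E, orderOf x = r → Nat.card (Subgroup.centralizer ({x} : Set E)) = r) ∧
      r = u ^ 2 + w ^ 2 := by
  haveI : Fact r.Prime := ⟨hr⟩
  haveI : Fact p.Prime := ⟨H.p_prime⟩
  have hne : ∀ x : E, orderOf x = r → x ≠ 1 := fun x hx h => by
    rw [h, orderOf_one] at hx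
    exact hr.ne_one hx.symm
  have hcyc : ∀ x : E, orderOf x = r → IsCyclic (Subgroup.centralizer ({x} : Set E)) :=
    fun x hx => isCyclic_centralizer H.hV hord hn hx H.faith
  have hrE : r ∣ Nat.card E := by
    have h1 : ((p ^ n : ℕ) : ZMod r) = ((1 : ℕ) : ZMod r) := by
      rw [Nat.cast_pow, Nat.cast_one, ← hord, pow_orderOf_eq_one]
    have h2 := (ZMod.natCast_eq_natCast_iff _ _ _).1 h1
    rw [H.card_eq]
    exact ((Nat.modEq_iff_dvd' (Nat.one_le_pow _ _ H.p_prime.pos)).1 h2.symm).mul_right _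
  obtain ⟨z, hz⟩ := exists_prime_orderOf_dvd_card' r hrE
  have hy : orderOf y = r :=
    (orderOf_eq_of_isConj (H.cyc z (hne z hz) (hcyc z hz))).symm.trans hz
  have hall : ∀ x : E, orderOf x = r → Nat.card (Subgroup.centralizer ({x} : Set E)) = r := by
    intro x hx
    haveI := hcyc x hx
    obtain ⟨c, hc⟩ := IsCyclic.exists_generator (α := Subgroup.centralizer ({x} : Set E))
    have hsame : Subgroup.centralizer ({(c : E)} : Set E) = Subgroup.centralizer ({x} : Set E) := by
      ext a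
      rw [Subgroup.mem_centralizer_singleton_iff]
      constructor
      · intro ha
        rw [Subgroup.mem_centralizer_singleton_iff]
        obtain ⟨k, hk⟩ := Subgroup.mem_zpowers_iff.1
          (hc ⟨x, Subgroup.mem_centralizer_singleton_iff.2 rfl⟩)
        have hk' : (c : E) ^ k = x := by rw [← Subgroup.coe_zpow, hk]
        rw [← hk']
        exact (Commute.zpow_right (ha : Commute a (c : E)) k).eq
      · intro ha
        obtain ⟨k, hk⟩ := Subgroup.mem_zpowers_iff.1 (hc ⟨a, ha⟩)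
        have hk' : (c : E) ^ k = a := by rw [← Subgroup.coe_zpow, hk]
        rw [← hk']
        exact ((Commute.refl (c : E)).zpow_left k).eq
    have hordc : orderOf (c : E) = Nat.card (Subgroup.centralizer ({x} : Set E)) := by
      rw [Subgroup.orderOf_coe, orderOf_eq_card_of_forall_mem_zpowers hc]
    have hc1 : (c : E) ≠ 1 := fun h => by
      obtain ⟨k, hk⟩ := Subgroup.mem_zpowers_iff.1
        (hc ⟨x, Subgroup.mem_centralizer_singleton_iff.2 rfl⟩)
      exact hne x hx (by rw [show x = (c : E) ^ k by rw [← Subgroup.coe_zpow, hk], h, one_zpow])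
    rw [← hordc, orderOf_eq_of_isConj (H.cyc _ hc1 (by rw [hsame]; exact hcyc x hx)), hy]
  refine ⟨hy, hall y hy, fun x hx => H.cyc x (hne x hx) (hcyc x hx), hall, ?_⟩
  have h2 : 2 ≤ u ^ 2 + w ^ 2 := by
    have := Nat.one_le_pow 2 u (Nat.pos_of_ne_zero H.u_ne)
    have := Nat.one_le_pow 2 w (Nat.pos_of_ne_zero H.w_ne)
    omega
  rcases hr.eq_one_or_self_of_dvd _ (hall y hy ▸ H.dvd_cent) with h | h
  · omega
  · exact h.symm

/-- The square of the primitive prime does not divide the order. -/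
theorem not_sq_dvd (hn : 0 < n) {r : ℕ} (hr : r.Prime) (hord : orderOf (p : ZMod r) = n) :
    ¬ r ^ 2 ∣ Nat.card E := by
  haveI : Fact r.Prime := ⟨hr⟩
  intro h
  obtain ⟨S, hS⟩ := Sylow.exists_subgroup_card_pow_prime r h
  have hSp : IsPGroup r S := IsPGroup.of_card hS
  haveI : Nontrivial S := Finite.one_lt_card_iff_nontrivial.1
    (by rw [hS]; exact Nat.one_lt_pow two_ne_zero hr.one_lt)
  haveI : Nontrivial (Subgroup.center S) := hSp.center_nontrivial
  obtain ⟨k, hk, hk'⟩ := (hSp.to_subgroup (Subgroup.center S)).nontrivial_iff_card.1 inferInstance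
  obtain ⟨z, hz⟩ := exists_prime_orderOf_dvd_card' r
    (show r ∣ Nat.card (Subgroup.center S) from hk' ▸ dvd_pow_self r hk.ne')
  have hz' : orderOf ((z : S) : E) = r := by rw [Subgroup.orderOf_coe, Subgroup.orderOf_coe, hz]
  have hle : S ≤ Subgroup.centralizer ({((z : S) : E)} : Set E) := fun a ha =>
    Subgroup.mem_centralizer_singleton_iff.2
      (congrArg Subtype.val (Subgroup.mem_center_iff.1 z.2 ⟨a, ha⟩))
  have h1 := Subgroup.card_le_of_le hle
  rw [hS, (primitive_data H hn hr hord).2.2.2.1 _ hz'] at h1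
  have := hr.two_le
  nlinarith

set_option maxHeartbeats 1000000 in
/-- In degree four over the field with three elements the configuration is impossible. -/
theorem not_eightyOne (hp : p = 3) (hn : n = 4) : False := by
  subst hp hn
  classical
  have hord5 : orderOf ((3 : ℕ) : ZMod 5) = 4 := by
    rw [show (4 : ℕ) = 2 ^ (1 + 1) by norm_num]
    haveI : Fact (Nat.Prime 2) := ⟨Nat.prime_two⟩
    exact orderOf_eq_prime_pow (by decide) (by decide)
  haveI : Fact (Nat.Prime 3) := ⟨by norm_num⟩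
  haveI : Fact (Nat.Prime 5) := ⟨by norm_num⟩
  obtain ⟨hy, hC, -, hall, -⟩ := primitive_data H (by norm_num) (by norm_num) hord5
  have hCy : Subgroup.centralizer ({y} : Set E) = Subgroup.zpowers y :=
    (Subgroup.eq_of_le_of_card_ge (Subgroup.zpowers_le.2
      (Subgroup.mem_centralizer_singleton_iff.2 rfl)) (by rw [hC, Nat.card_zpowers, hy])).symm
  obtain ⟨-, -, hconj, -, -⟩ := primitive_data H (by norm_num) (by norm_num) hord5
  -- the number of elements of order five
  have hX : Nat.card {x : E // IsConj y x} = 16 * g ^ 2 := by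
    have h1 := Subgroup.index_mul_card (Subgroup.centralizer ({y} : Set E))
    rw [hC, H.card_eq] at h1
    rw [natCard_conj]
    omega
  letI : MulAction (Subgroup.zpowers y) {x : E // IsConj y x} :=
    { smul := fun z x => ⟨(z : E) * x.1 * (z : E)⁻¹,
        x.2.trans (isConj_iff.2 ⟨(z : E), rfl⟩)⟩
      one_smul := fun x => Subtype.ext (show (1 : E) * x.1 * (1 : E)⁻¹ = x.1 by group)
      mul_smul := fun a b x => Subtype.ext
        (show (a * b : E) * x.1 * (a * b : E)⁻¹ = (a : E) * ((b : E) * x.1 * (b : E)⁻¹) * (a : E)⁻¹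
          by group) }
  have hmod := (IsPGroup.of_card (p := 5) (n := 1)
    (by rw [Nat.card_zpowers, hy, pow_one]) :
      IsPGroup 5 (Subgroup.zpowers y)).card_modEq_card_fixedPoints {x : E // IsConj y x}
  have hfix : Nat.card (MulAction.fixedPoints (Subgroup.zpowers y) {x : E // IsConj y x}) =
      Nat.card {z : Subgroup.zpowers y // z ≠ 1} := by
    have h5 : ∀ z : Subgroup.zpowers y, z ≠ 1 → orderOf (z : E) = 5 := fun z hz => by
      refine orderOf_eq_prime ?_ fun h => hz (Subtype.ext h)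
      obtain ⟨k, hk⟩ := Subgroup.mem_zpowers_iff.1 z.2
      rw [← hk, ← zpow_natCast, ← zpow_mul, mul_comm, zpow_mul, zpow_natCast, ← hy,
        pow_orderOf_eq_one, one_zpow]
    let F : {z : Subgroup.zpowers y // z ≠ 1} →
        MulAction.fixedPoints (Subgroup.zpowers y) {x : E // IsConj y x} := fun z =>
      ⟨⟨(z.1 : E), hconj _ (h5 z.1 z.2)⟩, fun a => Subtype.ext (by
        show (a : E) * (z.1 : E) * (a : E)⁻¹ = (z.1 : E)
        obtain ⟨k, hk⟩ := Subgroup.mem_zpowers_iff.1 a.2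
        obtain ⟨l, hl⟩ := Subgroup.mem_zpowers_iff.1 z.1.2
        rw [← hk, ← hl, (Commute.zpow_zpow_self y k l).eq, mul_inv_cancel_right])⟩
    refine (Nat.card_eq_of_bijective F ⟨fun z z' h => ?_, fun x => ?_⟩).symm
    · exact Subtype.ext (Subtype.ext (congrArg (fun x => ((Subtype.val x).1 : E)) h))
    · have hmem : x.1.1 ∈ Subgroup.zpowers y := by
        refine (SetLike.ext_iff.1 hCy _).1 (Subgroup.mem_centralizer_singleton_iff.2 ?_)
        have h1 : y * x.1.1 * y⁻¹ = x.1.1 :=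
          congrArg Subtype.val (x.2 ⟨y, Subgroup.mem_zpowers y⟩)
        exact (mul_inv_eq_iff_eq_mul.1 h1).symm
      refine ⟨⟨⟨x.1.1, hmem⟩, fun h => ?_⟩, Subtype.ext (Subtype.ext rfl)⟩
      have := orderOf_eq_of_isConj x.1.2
      rw [show x.1.1 = 1 from congrArg Subtype.val h, orderOf_one, hy] at this
      exact absurd this (by norm_num)
  have hfour : Nat.card {z : Subgroup.zpowers y // z ≠ 1} = 4 := by
    have h3 := Nat.card_congr (Equiv.sumCompl fun z : Subgroup.zpowers y => z = 1)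
    rw [Nat.card_sum, Nat.card_zpowers, hy,
      show Nat.card {z : Subgroup.zpowers y // z = 1} = 1 from Nat.card_eq_one_iff_unique.2
        ⟨⟨fun a b => Subtype.ext (a.2.trans b.2.symm)⟩, ⟨⟨1, rfl⟩⟩⟩] at h3
    show Nat.card {z : Subgroup.zpowers y // ¬ z = 1} = 4
    omega
  rw [hX, hfix, hfour] at hmod
  -- so `g = 2`
  have hgl := card_dvd_card_GL H.hV H.exp H.faith
  rw [H.card_eq, Fin.prod_univ_four] at hgl
  norm_num at hgl
  have hg : g = 2 := by
    have h3 : ¬ 3 ∣ g ^ 2 := fun h => H.coprime (H.card_eq ▸ h.mul_left _)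
    have hd : g ^ 2 ∣ 416 := by
      have h1 : g ^ 2 ∣ 3 ^ 6 * 416 := by
        refine (Nat.mul_dvd_mul_iff_left (by norm_num : 0 < 80)).1 (hgl.trans ?_)
        norm_num
      exact (((Nat.Prime.coprime_iff_not_dvd (by norm_num : Nat.Prime 3)).2 h3).symm.pow_right
        6).dvd_of_dvd_mul_left h1
    have hle := Nat.le_of_dvd (by norm_num) hd
    have : g ≤ 20 := by nlinarith
    simp only [Nat.ModEq] at hmod
    interval_cases g <;> revert hd hmod <;> norm_num
  have hcard : Nat.card E = 320 := by rw [H.card_eq, hg]; norm_num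
  -- a normal 2-subgroup
  haveI : Fact (Nat.Prime 2) := ⟨Nat.prime_two⟩
  obtain ⟨P, hP⟩ := Sylow.exists_subgroup_card_pow_prime 2
    (show 2 ^ 6 ∣ Nat.card E from hcard ▸ by norm_num)
  have hPidx : P.index = 5 := by
    have := Subgroup.index_mul_card P
    rw [hP, hcard] at this
    omega
  let K : Subgroup E := P.normalCore
  haveI : K.Normal := Subgroup.normalCore_normal P
  have hK2 : IsPGroup 2 K := (IsPGroup.of_card hP).to_le (Subgroup.normalCore_le P)
  have hKne : K ≠ ⊥ := by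
    intro hK
    have h1 : Function.Injective (MulAction.toPermHom E (E ⧸ P)) :=
      (MonoidHom.ker_eq_bot_iff _).1 ((Subgroup.normalCore_eq_ker P).symm.trans hK)
    have h2 := Subgroup.card_dvd_of_injective _ h1
    rw [hcard, Nat.card_perm, ← Subgroup.index, hPidx] at h2
    norm_num [Nat.factorial] at h2
  -- an elementary abelian normal subgroup
  let A : Subgroup E :=
    { carrier := {a | a ∈ K ∧ a ^ 2 = 1 ∧ ∀ k ∈ K, k * a = a * k}
      one_mem' := ⟨one_mem _, one_pow _, fun k _ => by rw [mul_one, one_mul]⟩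
      mul_mem' := fun {a b} ha hb => ⟨mul_mem ha.1 hb.1, by
          rw [(show Commute a b from hb.2.2 a ha.1).mul_pow, ha.2.1, hb.2.1, one_mul],
        fun k hk => by rw [← mul_assoc, ha.2.2 k hk, mul_assoc, hb.2.2 k hk, ← mul_assoc]⟩
      inv_mem' := fun {a} ha => ⟨inv_mem ha.1, by rw [inv_pow, ha.2.1, inv_one],
        fun k hk => ((show Commute k a from ha.2.2 k hk).inv_right).eq⟩ }
  letI : Fintype A := Fintype.ofFinite A
  have hA2 : ∀ a ∈ A, a ^ 2 = 1 := fun a ha => ha.2.1
  have hAcomm : ∀ a ∈ A, ∀ b ∈ A, a * b = b * a := fun a ha b hb => hb.2.2 a ha.1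
  haveI hAn : A.Normal := by
    refine ⟨fun a ha c => ⟨Subgroup.Normal.conj_mem inferInstance a ha.1 c, ?_, fun k hk => ?_⟩⟩
    · rw [conj_pow, ha.2.1, mul_one, mul_inv_cancel]
    · have h1 := ha.2.2 _ (Subgroup.Normal.conj_mem inferInstance k hk c⁻¹ : c⁻¹ * k * c⁻¹⁻¹ ∈ K)
      rw [inv_inv] at h1
      calc k * (c * a * c⁻¹) = c * ((c⁻¹ * k * c) * a) * c⁻¹ := by group
        _ = c * (a * (c⁻¹ * k * c)) * c⁻¹ := by rw [h1]
        _ = c * a * c⁻¹ * k := by group
  obtain ⟨a₀, ha₀, ha₀1⟩ : ∃ a ∈ A, a ≠ 1 := by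
    haveI : Nontrivial K := (Subgroup.nontrivial_iff_ne_bot K).2 hKne
    haveI : Nontrivial (Subgroup.center K) := hK2.center_nontrivial
    obtain ⟨k, hk, hk'⟩ :=
      (hK2.to_subgroup (Subgroup.center K)).nontrivial_iff_card.1 inferInstance
    obtain ⟨z, hz⟩ := exists_prime_orderOf_dvd_card' 2
      (show 2 ∣ Nat.card (Subgroup.center K) from hk' ▸ dvd_pow_self 2 hk.ne')
    have hz' : orderOf ((z : K) : E) = 2 := by rw [Subgroup.orderOf_coe, Subgroup.orderOf_coe, hz]
    refine ⟨((z : K) : E), ⟨(z : K).2, ?_, fun c hc => ?_⟩, fun h => ?_⟩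
    · rw [← hz']; exact pow_orderOf_eq_one _
    · exact congrArg Subtype.val (Subgroup.mem_center_iff.1 z.2 ⟨c, hc⟩)
    · rw [h, orderOf_one] at hz'
      norm_num at hz'
  -- a common eigenvector
  obtain ⟨W, ⟨hW1, hWinv⟩, hWmin⟩ :=
    Set.Finite.exists_minimal (s := {W : Subgroup V | W ≠ ⊥ ∧ ∀ a ∈ A, ∀ v ∈ W, a • v ∈ W})
      (Set.toFinite _) ⟨⊤, by
        intro h
        have h1 : Nat.card (⊤ : Subgroup V) = 1 := by rw [h]; exact Subgroup.card_bot
        rw [Subgroup.card_top, H.hV] at h1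
        norm_num at h1, fun a _ v _ => Subgroup.mem_top _⟩
  obtain ⟨⟨v, hvW⟩, hv⟩ : ∃ v : W, v ≠ 1 := by
    haveI := (Subgroup.nontrivial_iff_ne_bot W).2 hW1
    exact exists_ne 1
  have hv : v ≠ 1 := fun h => hv (Subtype.ext h)
  have heig : ∀ a ∈ A, a • v = v ∨ a • v = v⁻¹ := by
    intro a ha
    rcases eq_or_ne (W ⊓ fixSub a) ⊥ with h | h
    · refine Or.inr (eq_inv_of_mul_eq_one_right (Subgroup.mem_bot.1 (h ▸ ⟨?_, ?_⟩)))
      · exact mul_mem hvW (hWinv a ha v hvW)
      · show a • (v * a • v) = v * a • v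
        rw [smul_mul', smul_smul, ← pow_two, hA2 a ha, one_smul, mul_comm]
    · refine Or.inl ((hWmin ⟨h, fun b hb x hx => ⟨hWinv b hb x hx.1, ?_⟩⟩ inf_le_left hvW).2)
      show a • b • x = b • x
      rw [smul_smul, hAcomm a ha b hb, mul_smul, show a • x = x from hx.2]
  -- its five translates have different characters
  let vi : Fin 5 → V := fun i => y ^ (i : ℕ) • v
  have hvi1 : ∀ i, vi i ≠ 1 := fun i h =>
    hv (smul_left_cancel (y ^ (i : ℕ)) (h.trans (smul_one _).symm))
  let χ : Fin 5 → A → ℤ := fun i a => if (a : E) • vi i = vi i then 1 else -1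
  have hχ : ∀ i (a : A), (a : E) • vi i = vi i ^ χ i a := by
    intro i a
    by_cases h : (a : E) • vi i = vi i
    · simp [χ, h]
    · simp only [χ, if_neg h, zpow_neg, zpow_one]
      have hmem : (y ^ (i : ℕ))⁻¹ * (a : E) * (y ^ (i : ℕ))⁻¹⁻¹ ∈ A :=
        hAn.conj_mem a a.2 _
      rw [inv_inv] at hmem
      have h2 : (a : E) • vi i = y ^ (i : ℕ) • (((y ^ (i : ℕ))⁻¹ * (a : E) * y ^ (i : ℕ)) • v) := by
        simp only [vi, smul_smul]
        congr 1
        group
      rcases heig _ hmem with h1 | h1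
      · exact absurd (by rw [h2, h1]) h
      · rw [h2, h1, smul_inv']
  have hχsq : ∀ i a, χ i a = 1 ∨ χ i a = -1 := fun i a => by
    simp only [χ]; split <;> simp
  have hne : ∀ i, vi i ≠ (vi i)⁻¹ := fun i h => hvi1 i (by
    have h2 : vi i ^ 2 = 1 := by rw [pow_two]; nth_rw 2 [h]; rw [mul_inv_cancel]
    have h3 := H.exp (vi i)
    rw [pow_succ, h2, one_mul] at h3
    exact h3)
  have hχmul : ∀ i (a b : A), χ i (a * b) = χ i a * χ i b := by
    intro i a b
    have h1 : vi i ^ χ i (a * b) = vi i ^ (χ i a * χ i b) := by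
      rw [← hχ, zpow_mul, ← hχ, ← smul_zpow', ← hχ, Subgroup.coe_mul, mul_smul]
    rcases hχsq i (a * b) with h | h <;> rcases hχsq i a with h' | h' <;>
      rcases hχsq i b with h'' | h'' <;> rw [h, h', h''] at h1 ⊢ <;>
      norm_num at h1 ⊢ <;> first | exact (hne i h1) | exact (hne i h1.symm)
  have hdist : ∀ i l : Fin 5, i < l → χ i ≠ χ l := by
    intro i l hil he
    set z := y ^ ((l : ℕ) - (i : ℕ)) with hz
    have hzord : orderOf z = 5 := by
      refine orderOf_eq_prime ?_ fun h => ?_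
      · have hy5 : y ^ 5 = 1 := hy ▸ pow_orderOf_eq_one y
        rw [hz, ← pow_mul, mul_comm, pow_mul, hy5, one_pow]
      · have := Nat.le_of_dvd (by omega) (orderOf_dvd_of_pow_eq_one h)
        omega
    -- `a ↦ a⁻¹ a ^ z` is onto
    let ψ : A → A := fun a => a⁻¹ * ⟨z⁻¹ * (a : E) * z, by
      have := hAn.conj_mem a a.2 z⁻¹
      rwa [inv_inv] at this⟩
    have hψinj : Function.Injective ψ := by
      intro a b h
      have h1 : (a : E)⁻¹ * (z⁻¹ * (a : E) * z) = (b : E)⁻¹ * (z⁻¹ * (b : E) * z) :=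
        congrArg Subtype.val h
      -- `b a⁻¹` commutes with `z`
      have hba : (b : E) * (a : E)⁻¹ = z⁻¹ * ((b : E) * (a : E)⁻¹) * z := by
        calc (b : E) * (a : E)⁻¹
            = (b : E) * ((a : E)⁻¹ * (z⁻¹ * (a : E) * z)) * (z⁻¹ * (a : E) * z)⁻¹ := by group
          _ = (b : E) * ((b : E)⁻¹ * (z⁻¹ * (b : E) * z)) * (z⁻¹ * (a : E) * z)⁻¹ := by rw [h1]
          _ = z⁻¹ * ((b : E) * (a : E)⁻¹) * z := by group
      have hmem : (b : E) * (a : E)⁻¹ ∈ Subgroup.centralizer ({z} : Set E) := by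
        refine Subgroup.mem_centralizer_singleton_iff.2 ?_
        rw [eq_comm, ← eq_inv_mul_iff_mul_eq]
        simpa only [mul_assoc] using hba
      have hd5 : orderOf ((b : E) * (a : E)⁻¹) ∣ 5 :=
        hall z hzord ▸ Subgroup.orderOf_dvd_natCard _ hmem
      have hd2 : orderOf ((b : E) * (a : E)⁻¹) ∣ 2 :=
        orderOf_dvd_of_pow_eq_one (hA2 _ (b * a⁻¹ : A).2)
      have := Nat.dvd_gcd hd5 hd2
      norm_num at this
      exact Subtype.ext (mul_inv_eq_one.1 this).symm
    have htriv : ∀ c : A, (c : E) • vi i = vi i := by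
      intro c
      obtain ⟨a, rfl⟩ := (Finite.injective_iff_surjective.1 hψinj) c
      set a' : A := ⟨z⁻¹ * (a : E) * z, by
        have := hAn.conj_mem a a.2 z⁻¹
        rwa [inv_inv] at this⟩ with ha'
      have hvl : vi l = z • vi i := by
        simp only [vi, hz, smul_smul, ← pow_add, Nat.sub_add_cancel (show (i : ℕ) ≤ l by omega)]
      have h1 : vi i ^ χ i a' = vi i ^ χ l a := by
        have e1 : z • ((a' : E) • vi i) = (a : E) • (z • vi i) := by
          show z • ((z⁻¹ * (a : E) * z) • vi i) = (a : E) • z • vi i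
          exact (mul_smul _ _ _).symm.trans ((congrArg (· • vi i)
            (show z * (z⁻¹ * (a : E) * z) = (a : E) * z by group)).trans (mul_smul _ _ _))
        rw [hχ i a', ← hvl, hχ l a, smul_zpow', ← hvl] at e1
        apply smul_left_cancel z
        rw [smul_zpow', smul_zpow', ← hvl]
        exact e1
      have h2 : χ i a' = χ i a := by
        rw [congrFun he a]
        rcases hχsq i a' with h | h <;> rcases hχsq l a with h' | h' <;> rw [h, h'] at h1 ⊢ <;>
          norm_num at h1 <;> first | exact (hne i h1).elim | exact (hne i h1.symm).elim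
      rw [hχ, show ψ a = a⁻¹ * a' from rfl, hχmul, h2, ← hχmul, inv_mul_cancel, ← hχ,
        Subgroup.coe_one, one_smul]
    refine ha₀1 (H.faith a₀ fun x => ?_)
    by_cases hx : x = 1
    · rw [hx, smul_one]
    · obtain ⟨c, rfl⟩ := H.trans (vi i) x (hvi1 i) hx
      have hmem := hAn.conj_mem a₀ ha₀ c⁻¹
      rw [inv_inv] at hmem
      have := htriv ⟨_, hmem⟩
      rw [smul_smul, show a₀ * c = c * (c⁻¹ * a₀ * c) by group, mul_smul, this]
  have horth : ∀ i l : Fin 5, i ≠ l → ∑ a : A, χ i a * χ l a = 0 := by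
    intro i l hil
    obtain ⟨b, hb⟩ : ∃ b, χ i b * χ l b = -1 := by
      by_contra hall'
      push Not at hall'
      have he : χ i = χ l := funext fun b => by
        have := hall' b
        rcases hχsq i b with h | h <;> rcases hχsq l b with h' | h' <;> simp_all
      rcases lt_or_gt_of_ne hil with h | h
      · exact hdist i l h he
      · exact hdist l i h he.symm
    have h1 : ∑ a : A, χ i a * χ l a = ∑ a : A, χ i (b * a) * χ l (b * a) :=
      (Fintype.sum_equiv (Equiv.mulLeft b) _ _ fun a => rfl).symm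
    have h2 : ∑ a : A, χ i (b * a) * χ l (b * a) = -∑ a : A, χ i a * χ l a := by
      rw [← Finset.sum_neg_distrib]
      refine Finset.sum_congr rfl fun a _ => ?_
      rw [hχmul, hχmul, mul_mul_mul_comm, hb, neg_one_mul]
    omega
  have hself : ∀ i, ∑ a : A, χ i a * χ i a = (Nat.card A : ℤ) := fun i => by
    rw [Finset.sum_congr rfl (fun a _ => show χ i a * χ i a = 1 by
      rcases hχsq i a with h | h <;> rw [h] <;> norm_num), Finset.sum_const, Finset.card_univ,
      Nat.card_eq_fintype_card, nsmul_one]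
  have hA3 : ¬ 3 ∣ Nat.card A := fun h => H.coprime (h.trans (Subgroup.card_subgroup_dvd_card A))
  -- the products of powers of the translates are different
  let Φ : (Fin 5 → Fin 3) → V := fun c => ∏ l, vi l ^ ((c l : ℕ) : ℤ)
  have zpow_sum : ∀ (x : V) (f : A → ℤ), x ^ (∑ a : A, f a) = ∏ a : A, x ^ f a := fun x f =>
    map_prod (zpowersHom V x) (fun a => Multiplicative.ofAdd (f a)) Finset.univ
  have hinj : Function.Injective Φ := by
    intro c c' h
    funext i
    let e : V →* V := ∏ a : A, (zpowGroupHom (χ i a)).comp (MulDistribMulAction.toMonoidHom V (a : E))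
    have he : ∀ l, e (vi l) = vi l ^ (∑ a : A, χ i a * χ l a) := by
      intro l
      rw [MonoidHom.finsetProd_apply, zpow_sum]
      refine Finset.prod_congr rfl fun a _ => ?_
      show ((a : E) • vi l) ^ χ i a = _
      rw [hχ, ← zpow_mul, mul_comm]
    have hΦ : ∀ c : Fin 5 → Fin 3, e (Φ c) = vi i ^ ((Nat.card A : ℤ) * (c i : ℕ)) := by
      intro c
      rw [map_prod, Finset.prod_eq_single i (fun l _ hl => by
        rw [map_zpow, he, horth i l (Ne.symm hl), zpow_zero, one_zpow])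
        (fun h => absurd (Finset.mem_univ i) h), map_zpow, he, hself, zpow_mul]
    have h1 := (hΦ c).symm.trans ((congrArg e h).trans (hΦ c'))
    rw [zpow_eq_zpow_iff_modEq, orderOf_eq_prime (H.exp (vi i)) (hvi1 i), Int.modEq_iff_dvd,
      ← mul_sub] at h1
    rcases (Nat.prime_iff_prime_int.1 (by norm_num : Nat.Prime 3)).dvd_or_dvd h1 with h2 | h2
    · exact absurd (Int.natCast_dvd_natCast.1 h2) hA3
    · apply Fin.ext
      have := (c i).isLt
      have := (c' i).isLt
      omega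
  have := Nat.card_le_card_of_injective Φ hinj
  rw [H.hV, Nat.card_fun, Nat.card_eq_fintype_card, Fintype.card_fin, Nat.card_eq_fintype_card,
    Fintype.card_fin] at this
  norm_num at this

/-- The main case analysis. -/
theorem card_le_three' : p ^ n ≤ 3 := by
  haveI : Fact p.Prime := ⟨H.p_prime⟩
  have hn1 := one_le H
  rcases Nat.eq_or_lt_of_le hn1 with hn | hn
  · rw [← hn, pow_one]
    exact le_three_of_one H hn.symm
  exfalso
  by_cases h2 : n = 2 ∧ ∃ m : ℕ, p + 1 = 2 ^ m
  · exact not_nine H (eq_three_of_mersenne H h2.1 h2.2) h2.1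
  obtain ⟨r, hr, hord⟩ := Zsigmondy.exists_ppd H.p_prime.one_lt hn
    (fun h => H.p_odd h.1) h2
  haveI : Fact r.Prime := ⟨hr⟩
  obtain ⟨hy, hC, hconj, hall, hsum⟩ := primitive_data H (by omega) hr hord
  -- the powers of `y`
  have hle : r - 1 ≤ n := pred_le_of_conj H.hV hord (by omega) hy H.faith H.exp fun i hi hir =>
    hconj _ (by
      rw [Nat.Coprime.orderOf_pow (hy ▸ hr.coprime_iff_not_dvd.2 fun h =>
        (Nat.le_of_dvd hi h).not_gt hir), hy])
  have hp0 : (p : ZMod r) ≠ 0 := fun h0 => by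
    rw [h0, orderOf_zero] at hord
    omega
  have hdvd : n ∣ r - 1 := hord ▸ ZMod.orderOf_dvd_card_sub_one hp0
  have hnr : n = r - 1 := by
    have := hr.two_le
    have := Nat.le_of_dvd (by omega) hdvd
    omega
  have hr2 : r ≠ 2 := fun h => by omega
  have hr4 := sum_sq_mod_four ((hr.eq_two_or_odd).resolve_left hr2) hsum
  obtain ⟨k, hk⟩ : ∃ k, n = 4 * k := ⟨n / 4, by omega⟩
  have hk1 : 1 ≤ k := by omega
  -- `p ^ n - 1` is `r` times a square
  have hg0 : g ≠ 0 := fun h => Nat.card_pos.ne' (by rw [H.card_eq, h]; ring : Nat.card E = 0)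
  have heq : d ^ 2 * r = (p ^ n - 1) * g ^ 2 := by rw [← H.card_eq, H.card_eq', hsum]
  have hnsq := not_sq_dvd H (by omega) hr hord
  have hrg : ¬ r ∣ g := fun h => hnsq (H.card_eq ▸ (pow_dvd_pow_of_dvd h 2).mul_left _)
  have hgd : g ∣ d := (Nat.pow_dvd_pow_iff two_ne_zero).1
    ((((hr.coprime_iff_not_dvd.2 hrg).symm).pow_left 2).dvd_of_dvd_mul_right
      (heq ▸ dvd_mul_left _ _))
  obtain ⟨h, rfl⟩ := hgd
  have heq' : p ^ (4 * k) - 1 = r * h ^ 2 := by
    refine Nat.eq_of_mul_eq_mul_right (pow_pos (Nat.pos_of_ne_zero hg0) 2) ?_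
    rw [← hk, ← heq]; ring
  have hdiv : r ∣ p ^ (2 * k) + 1 := by
    have h1 : ((p : ZMod r) ^ (2 * k) - 1) * ((p : ZMod r) ^ (2 * k) + 1) = 0 := by
      have h4 := pow_orderOf_eq_one (p : ZMod r)
      rw [hord, hk] at h4
      linear_combination h4
    rcases mul_eq_zero.1 h1 with h1 | h1
    · have h3 := Nat.le_of_dvd (by omega) (hord ▸ orderOf_dvd_of_pow_eq_one (sub_eq_zero.1 h1))
      omega
    · rw [← (ZMod.natCast_eq_zero_iff _ _)]
      push_cast
      exact h1
  have hk' := eq_one_of_eq_prime_mul_sq H.p_prime H.p_odd hk1 hr hr2 hdiv heq'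
  subst hk'
  have hr5 : r = 5 := by omega
  subst hr5
  -- every odd prime divisor of `p ^ 2 + 1` is five
  have hpo : p % 2 = 1 := H.p_prime.eq_two_or_odd.resolve_left H.p_odd
  obtain ⟨s, hs⟩ : ∃ s, p ^ 2 + 1 = 2 * s := by
    obtain ⟨t, rfl⟩ : ∃ t, p = 2 * t + 1 := ⟨p / 2, by omega⟩
    exact ⟨2 * t * t + 2 * t + 1, by ring⟩
  have hsodd : s % 2 = 1 := by
    obtain ⟨t, rfl⟩ : ∃ t, p = 2 * t + 1 := ⟨p / 2, by omega⟩
    have : s = 2 * (t * t + t) + 1 := by nlinarith
    omega
  have hsdvd : s ∣ Nat.card E := by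
    refine H.card_eq ▸ Dvd.dvd.mul_right ?_ _
    refine ⟨2 * (p ^ 2 - 1), ?_⟩
    rw [← mul_assoc, mul_comm s 2, ← hs, hk, show (4 * 1) = 2 + 2 by rfl]
    have h1 : 1 ≤ p ^ 2 := Nat.one_le_pow _ _ H.p_prime.pos
    obtain ⟨q, hq⟩ : ∃ q, p ^ 2 = q + 1 := ⟨p ^ 2 - 1, by omega⟩
    rw [pow_add, hq, show q + 1 - 1 = q by omega, show (q + 1) * (q + 1) = (q + 1 + 1) * q + 1 by
      ring, Nat.add_sub_cancel]
  have honly : ∀ t : ℕ, t.Prime → t ∣ s → t = 5 := by
    intro t ht hts
    haveI : Fact t.Prime := ⟨ht⟩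
    have ht2 : t ≠ 2 := fun h => by rw [h] at hts; omega
    have h1 : (p : ZMod t) ^ 2 = -1 := by
      rw [eq_neg_iff_add_eq_zero]
      have := (ZMod.natCast_eq_zero_iff (p ^ 2 + 1) t).2 (hs ▸ hts.mul_left 2)
      exact_mod_cast this
    have hordt : orderOf (p : ZMod t) = n := by
      rw [hk, show 4 * 1 = 2 ^ (1 + 1) by norm_num]
      refine orderOf_eq_prime_pow (fun h => ?_) ?_
      · rw [pow_one, h1] at h
        haveI : Fact (2 < t) := ⟨by have := ht.two_le; omega⟩
        exact ZMod.neg_one_ne_one h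
      · rw [show (2 : ℕ) ^ (1 + 1) = 2 * 2 by norm_num, pow_mul, h1]; norm_num
    exact (primitive_data H (by omega) ht hordt).1.symm.trans hy
  have hs5 : s = 5 := by
    have hs0 : 1 < s := by
      have := H.p_prime.two_le
      nlinarith
    obtain ⟨a, rfl⟩ : 5 ∣ s := by
      have := honly s.minFac (Nat.minFac_prime (by omega)) (Nat.minFac_dvd s)
      exact this ▸ Nat.minFac_dvd s
    rcases Nat.lt_or_ge a 2 with h | h
    · omega
    · have := honly a.minFac (Nat.minFac_prime (by omega)) ((Nat.minFac_dvd a).mul_left 5)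
      exact absurd (dvd_trans (by rw [pow_two]; exact Nat.mul_dvd_mul_left 5 (this ▸ Nat.minFac_dvd a))
        hsdvd) hnsq
  have hp3 : p = 3 := by
    rw [hs5] at hs
    nlinarith
  exact not_eightyOne H hp3 hk

end Cases

/-- **Transitive coprime linear groups with square point stabilizers**, with two projective
characters. -/
theorem card_le_three {p : ℕ} [Fact p.Prime] (hp : p ≠ 2) (hV : IsPGroup p V)
    (hE : ¬ p ∣ Nat.card E) (hfaith : ∀ g : E, (∀ v : V, g • v = v) → g = 1)
    (htrans : ∀ v w : V, v ≠ 1 → w ≠ 1 → ∃ g : E, g • v = w)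
    (hsq : ∀ v : V, v ≠ 1 → IsSquare (Nat.card (MulAction.stabilizer E v)))
    (htw : ∃ y : E, y ≠ 1 ∧
      (∀ x : E, x ≠ 1 → IsCyclic (Subgroup.centralizer ({x} : Set E)) → IsConj y x) ∧
      ∃ d u w : ℕ, d ≠ 0 ∧ u ≠ 0 ∧ w ≠ 0 ∧ Nat.card E = d ^ 2 * (u ^ 2 + w ^ 2) ∧
        (u ^ 2 + w ^ 2) ∣ Nat.card (Subgroup.centralizer ({y} : Set E))) :
    Nat.card V ≤ 3 := by
  obtain ⟨n, hn⟩ := IsPGroup.iff_card.1 hV
  obtain ⟨y, hy, hcyc, d, u, w, hd, hu, hw, heq, hdvd⟩ := htw
  by_cases hV1 : ∃ v : V, v ≠ 1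
  · obtain ⟨v, hv⟩ := hV1
    obtain ⟨g, hg⟩ := hsq v hv
    rw [hn]
    exact card_le_three' (y := y) (g := g) (d := d) (u := u) (w := w)
      ⟨hn, Fact.out, hp, hE, hfaith, htrans, pow_eq_one_of_trans hV htrans,
        by rw [card_eq_mul_stabilizer htrans hv, hg, hn, pow_two], hy, hcyc, hd, hu, hw, heq, hdvd⟩
  · push Not at hV1
    have : Subsingleton V := ⟨fun a b => by rw [hV1 a, hV1 b]⟩
    rw [Nat.card_of_subsingleton (1 : V)]
    norm_num

end CfsgLib.HeightZeroThree
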