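import Cfsg.Agent.HeightZeroThree.Dual
import Cfsg.Agent.EqualDegree.Quotient
import Cfsg.Agent.HeightZeroCount.Basic
import Cfsg.Agent.Characters.CNFamily
import Cfsg.Agent.S4607
import Cfsg.Agent.S0971

/-!
# A normal defect group of a block with at most three characters of height zero

Modulo the commutator subgroup of the normal defect group `D` the block lies over one with abelian
defect group all of whose members come from characters of height zero.  Hence `|D| ≤ 3`.
-/

set_option autoImplicit false
set_option linter.style.haveILetI false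
set_option linter.unusedSectionVars false

namespace CfsgLib.HeightZeroThree

open Cfsg CfsgLib.Blocks CfsgLib.BlocksLocal CfsgLib.OddOrderChar CfsgLib.EqualDegree
open scoped ComplexConjugate commutatorElement

universe u

variable {G : Type u} [Group G] [Fintype G] {p : ℕ} [Fact p.Prime] {M : Ideal AlgInt} [M.IsPrime]
  {B : Set (IrrCharacter G)} {D : Subgroup G} [D.Normal]

local notation "LL" => D ⊔ Subgroup.centralizer (D : Set G)

/-- A block with normal defect group has a member trivial on it. -/
theorem exists_member_trivial (hM : Cfsg.IsPModular p M) (hB : Cfsg.IsPBlock M B)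
    (hD : Cfsg.IsDefectGroup p M B D) :
    ∃ χ ∈ B, ∀ a ∈ D, ((χ : IrrCharacter G) : G → ℂ) a = (χ : G → ℂ) 1 := by
  classical
  have hDp := IsDefectGroup.isPGroup hD
  haveI : Fintype ↥LL := Fintype.ofFinite _
  obtain ⟨b, hb, hind⟩ := exists_sub_block hM hB hD (L := LL) le_sup_left le_sup_right
    (by rw [Subgroup.normalizer_eq_top]; exact le_top)
  have htop : (D.subgroupOf LL) ⊔
      Subgroup.centralizer ((D.subgroupOf LL : Subgroup ↥LL) : Set ↥LL) = ⊤ := by
    refine eq_top_iff.2 fun l _ => ?_
    obtain ⟨x, hx, c, hc, he⟩ := Subgroup.mem_sup_of_normal_left.1 l.2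
    rw [show l = ⟨x, Subgroup.mem_sup_left hx⟩ * ⟨c, Subgroup.mem_sup_right hc⟩ from
      Subtype.ext he.symm]
    refine Subgroup.mul_mem_sup (Subgroup.mem_subgroupOf.2 hx)
      (Subgroup.mem_centralizer_iff.2 fun v hv => Subtype.ext ?_)
    exact Subgroup.mem_centralizer_iff.1 hc (v : G) (Subgroup.mem_subgroupOf.1 hv)
  obtain ⟨θ, ⟨hθ, hker⟩, -⟩ :=
    existsUnique_kerContains (hDp.comap_subtype (K := LL)) htop hM hind.1 hb
  obtain ⟨f, hf, hcov⟩ := CharactersDeep.Clifford.exists_over (G := G) (N := LL) θ.2
  let χ : IrrCharacter G := ⟨f, hf⟩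
  have h71 := (Cfsg.Agent.S0971.result p M hM D hDp b hind.1).2 _ (isPBlock_blockOf χ)
    ⟨χ, mem_blockOf_self χ, θ, hθ, hcov⟩
  refine ⟨χ, by rw [isInducedBlock_unique hind h71]; exact mem_blockOf_self χ, fun a ha => ?_⟩
  have hr := CharactersDeep.Clifford.restrict_eq_orbit_sum LL χ.2 θ.2 hcov
  have h1 := congrFun hr ⟨a, Subgroup.mem_sup_left ha⟩
  have h2 := congrFun hr 1
  simp only [Pi.smul_apply, Finset.sum_apply, Subgroup.coe_one] at h1 h2
  rw [h1, h2]
  congr 1
  refine Finset.sum_congr rfl fun φ hφ => ?_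
  obtain ⟨g, rfl⟩ := (CharactersDeep.Clifford.mem_orbit LL).1 hφ
  rw [← coe_conjIrr, conjIrr_one_apply, conjIrr_apply]
  exact hker _ (Subgroup.mem_subgroupOf.2 ((inferInstance : D.Normal).conj_mem a ha g))

/-- **At most three characters of height zero over a normal defect group.** -/
theorem card_le_three_of_height_zero (hM : Cfsg.IsPModular p M) (hB : Cfsg.IsPBlock M B)
    (hD : Cfsg.IsDefectGroup p M B D)
    (hk : Nat.card {χ : IrrCharacter G //
      χ ∈ B ∧ Cfsg.blockHeight p B (χ : G → ℂ) = 0} ≤ 3) :
    Nat.card D ≤ 3 := by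
  classical
  have hpp : p.Prime := Fact.out
  have hDp := IsDefectGroup.isPGroup hD
  set R : Subgroup G := ⁅D, D⁆ with hR
  haveI : R.Normal := Subgroup.commutator_normal D D
  haveI := Fintype.ofFinite (G ⧸ R)
  set D1 := D.map (QuotientGroup.mk' R) with hD1def
  haveI hD1n : D1.Normal :=
    Subgroup.Normal.map ‹D.Normal› _ (QuotientGroup.mk'_surjective _)
  have hRD : R ≤ D := Subgroup.commutator_le_right D D
  have hab : ∀ a ∈ D1, ∀ c ∈ D1, a * c = c * a := by
    rintro _ ⟨a, ha, rfl⟩ _ ⟨c, hc, rfl⟩
    rw [← commutatorElement_eq_one_iff_mul_comm, ← map_commutatorElement,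
      QuotientGroup.mk'_apply, QuotientGroup.eq_one_iff]
    exact Subgroup.commutator_mem_commutator ha hc
  have hidx : D1.index = D.index :=
    Subgroup.index_map_eq D (QuotientGroup.mk'_surjective _)
      (by rw [QuotientGroup.ker_mk']; exact hRD)
  have hG : (Nat.card G).factorization p =
      (Nat.card D).factorization p + D.index.factorization p := by
    rw [← Subgroup.card_mul_index D, Nat.factorization_mul Nat.card_pos.ne'
      Subgroup.index_ne_zero_of_finite, Finsupp.add_apply]
  have hG1 : (Nat.card (G ⧸ R)).factorization p =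
      (Nat.card D1).factorization p + D.index.factorization p := by
    rw [← Subgroup.card_mul_index D1, hidx, Nat.factorization_mul Nat.card_pos.ne'
      Subgroup.index_ne_zero_of_finite, Finsupp.add_apply]
  obtain ⟨χ, hχ, hχD⟩ := exists_member_trivial hM hB hD
  obtain ⟨f, hf, hfv⟩ := Characters.exists_irr_quotient R χ.2 fun a ha => hχD a (hRD ha)
  let ψ : IrrCharacter (G ⧸ R) := ⟨f, hf⟩
  set B1 := Cfsg.blockOf M (ψ : G ⧸ R → ℂ) with hB1def
  have hB1 : Cfsg.IsPBlock M B1 := isPBlock_blockOf ψ
  have hinfl : infl R ψ ∈ B := by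
    rwa [show infl R ψ = χ from Subtype.ext (funext fun g => by rw [infl_apply, hfv])]
  -- the members of the quotient block
  have key : ∀ η ∈ B1, infl R η ∈ B ∧ Cfsg.blockHeight p B (infl R η : G → ℂ) = 0 ∧
      (Cfsg.charDegree ((η : IrrCharacter (G ⧸ R)) : G ⧸ R → ℂ)).factorization p =
        D.index.factorization p := by
    intro η hη
    have hmem : infl R η ∈ B := by
      rw [eq_blockOf_of_mem hB hinfl, mem_blockOf]
      exact sameBlock_infl _ (mem_blockOf.1 hη)
    have hdeg : Cfsg.charDegree ((infl R η : IrrCharacter G) : G → ℂ) =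
        Cfsg.charDegree (η : G ⧸ R → ℂ) := by
      simp [Cfsg.charDegree, infl_apply]
    obtain ⟨e, he, hdvd⟩ := GaloisAverage.exists_degree_dvd_index η.2 D1 hab
    rw [← charDegree_cast η, Nat.cast_inj] at he
    subst he
    rw [hidx] at hdvd
    have hle := (Nat.factorization_le_iff_dvd (charDegree_ne_zero η)
      Subgroup.index_ne_zero_of_finite).2 hdvd p
    have hh := blockHeight_eq hM hB hD hmem
    have hge := defect_add_degree_ge hM hB hD hmem
    rw [hdeg] at hh hge
    exact ⟨hmem, by omega, by omega⟩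
  have hdef : Cfsg.IsDefectGroup p M B1 D1 := by
    obtain ⟨S, hS⟩ := exists_isDefectGroup (p := p) hB1
    have hP1 : IsPGroup p D1 := hDp.map _
    have hle := IsDefectGroup.le_of_normal hM hB1 hS D1 hP1
    obtain ⟨η, hη, he⟩ := exists_degree_eq hM hB1 hS
    rw [(key η hη).2.2, hG1] at he
    suffices D1 = S by rwa [this]
    refine Subgroup.eq_of_le_of_card_ge hle (le_of_eq ?_)
    obtain ⟨a, ha⟩ := IsPGroup.iff_card.1 hP1
    obtain ⟨c, hc⟩ := IsPGroup.iff_card.1 (IsDefectGroup.isPGroup hS)
    rw [ha, hc, hpp.factorization_pow, hpp.factorization_pow, Finsupp.single_eq_same,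
      Finsupp.single_eq_same] at he
    rw [ha, hc, show c = a by omega]
  have hkB1 : Nat.card B1 ≤ 3 := by
    refine le_trans (Nat.card_le_card_of_injective
      (fun η : B1 => (⟨infl R η.1, (key η.1 η.2).1, (key η.1 η.2).2.1⟩ :
        {χ : IrrCharacter G // χ ∈ B ∧ Cfsg.blockHeight p B (χ : G → ℂ) = 0}))
      fun η η' he => ?_) hk
    refine Subtype.ext (Subtype.ext (funext fun q => ?_))
    obtain ⟨g, rfl⟩ := QuotientGroup.mk_surjective q
    have := congrFun (congrArg (fun z : {χ : IrrCharacter G //
      χ ∈ B ∧ Cfsg.blockHeight p B (χ : G → ℂ) = 0} => ((z.1 : IrrCharacter G) : G → ℂ)) he) g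
    simpa [infl_apply] using this
  have hD1le : Nat.card D1 ≤ 3 := by
    by_cases hp : p = 2
    · subst hp
      rcases Nat.lt_or_ge (Nat.card D1) 2 with hlt | hge
      · omega
      have hd : 1 ≤ Cfsg.blockDefect 2 B1 := by
        rcases Nat.eq_zero_or_pos (Cfsg.blockDefect 2 B1) with h0 | h0
        · rw [card_defectGroup hM hB1 hdef, h0] at hge; norm_num at hge
        · exact h0
      have hall : ∀ η ∈ B1, Cfsg.blockHeight 2 B1
          ((η : IrrCharacter (G ⧸ R)) : G ⧸ R → ℂ) = 0 := fun η hη => by
        have := blockHeight_eq hM hB1 hdef hη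
        rw [(key η hη).2.2, hG1] at this
        omega
      have hdvd := HeightZeroCount.dvd_card_of_le_three hM hB1 hd (by norm_num)
      have hcnt : (HeightZeroCount.heightZero 2 B1).card = Nat.card B1 := by
        rw [← HeightZeroCount.card_heightZero]
        exact Nat.card_congr (Equiv.subtypeEquivRight fun η =>
          ⟨fun h => h.1, fun h => ⟨h, hall η h⟩⟩)
      have hne : 0 < Nat.card B1 := by
        rw [← hcnt]; exact Finset.card_pos.2 (HeightZeroCount.heightZero_nonempty hB1)
      have h2 : Nat.card B1 = 2 := by rw [hcnt] at hdvd; omega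
      rw [(Cfsg.Agent.S4607.result 2 M hM B1 hB1 D1 hdef).1 h2]
      norm_num
    · haveI := Fintype.ofFinite ↥(D1 ⊔ Subgroup.centralizer (D1 : Set (G ⧸ R)))
      obtain ⟨b, hb, hind⟩ := exists_sub_block hM hB1 hdef
        (L := D1 ⊔ Subgroup.centralizer (D1 : Set (G ⧸ R))) le_sup_left le_sup_right
        (by rw [Subgroup.normalizer_eq_top]; exact le_top)
      exact card_le_three_of_setting (b := b)
        { hM := hM, hB := hB1, hD := hdef, ab := hab, hb := hb, hind := hind } hp hkB1
  -- the abelianization is cyclic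
  have hRcard : Nat.card D = Nat.card R * Nat.card D1 := by
    have e1 := Subgroup.card_mul_index D
    have e2 := Subgroup.card_mul_index D1
    have e3 := Subgroup.card_mul_index R
    rw [hidx, ← Subgroup.index_eq_card] at e2
    rw [← e2, ← mul_assoc, ← e1] at e3
    exact (Nat.eq_of_mul_eq_mul_right
      (Nat.pos_of_ne_zero Subgroup.index_ne_zero_of_finite) e3).symm
  have hcomm : (commutator D).index = Nat.card D1 := by
    have e1 := Subgroup.index_mul_card (commutator D)
    rw [show Nat.card (commutator D) = Nat.card R by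
      rw [hR, ← Subgroup.map_subtype_commutator]
      exact Nat.card_congr
        ((commutator D).equivMapOfInjective D.subtype D.subtype_injective).toEquiv,
      hRcard, mul_comm (Nat.card R)] at e1
    exact Nat.eq_of_mul_eq_mul_right Nat.card_pos e1
  haveI : IsCyclic (Abelianization D) := by
    have hc : Nat.card (Abelianization D) = Nat.card D1 := hcomm
    have hpos : 0 < Nat.card (Abelianization D) := Nat.card_pos
    rcases (by omega : Nat.card (Abelianization D) = 1 ∨ Nat.card (Abelianization D) = 2 ∨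
      Nat.card (Abelianization D) = 3) with h | h | h
    · haveI := (Nat.card_eq_one_iff_unique.1 h).1
      infer_instance
    · haveI : Fact (Nat.Prime 2) := ⟨Nat.prime_two⟩
      exact isCyclic_of_prime_card h
    · haveI : Fact (Nat.Prime 3) := ⟨Nat.prime_three⟩
      exact isCyclic_of_prime_card h
  haveI : Group.IsNilpotent D := hDp.isNilpotent
  have hDcomm := Characters.CN.comm_of_isCyclic_abelianization D inferInstance
  have hR1 : R = ⊥ := by
    rw [hR, Subgroup.commutator_eq_bot_iff_le_centralizer]
    exact fun a ha => Subgroup.mem_centralizer_iff.2 fun c hc =>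
      congrArg Subtype.val (hDcomm ⟨c, hc⟩ ⟨a, ha⟩)
  rw [Subgroup.card_eq_one.2 hR1, one_mul] at hRcard
  omega

end CfsgLib.HeightZeroThree
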