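import Cfsg.Agent.HeightZeroThree.Linear
import Cfsg.Agent.CharactersDeep.Gallagher
import Cfsg.Agent.CharactersDeep.ExtensionCriteria

/-!
# Two characters over an invariant character

Let `C` be normal in `T`, `θ` an invariant irreducible character of `C` with exactly two
irreducible characters `χ₁`, `χ₂` of `T` over it, of ramifications `e₁`, `e₂`.  Then
`e₁ ^ 2 + e₂ ^ 2 = [T : C]`, one conjugacy class `K` of `T / C` is left where `χ₁` does not
vanish off `C`, it contains all nontrivial elements with cyclic centralizer, and `[T : C]`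
divides `c e₁ ^ 2` and `c e₂ ^ 2` for the order `c` of the centralizer of an element of `K`.
-/

set_option autoImplicit false
set_option linter.style.haveILetI false
set_option linter.unusedSectionVars false

namespace CfsgLib.HeightZeroThree

open CfsgLib.Characters CfsgLib.OddOrderChar CfsgLib.CharactersDeep
open scoped ComplexConjugate

universe u

variable {T : Type u} [Group T] [Fintype T] (C : Subgroup T) [C.Normal] [Fintype C]

/-- Naturals with a vanishing combination with positive weights vanish. -/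
theorem nat_eq_zero_of_comb {a b : ℕ} {x y : ℂ} (ha : 0 < a) (hb : 0 < b)
    (hx : ∃ n : ℕ, x = n) (hy : ∃ n : ℕ, y = n) (h : (a : ℂ) * x + b * y = 0) :
    x = 0 ∧ y = 0 := by
  obtain ⟨n, rfl⟩ := hx
  obtain ⟨m, rfl⟩ := hy
  have h' : a * n + b * m = 0 := by exact_mod_cast h
  obtain ⟨h1, h2⟩ := Nat.add_eq_zero_iff.1 h'
  rw [(mul_eq_zero.1 h1).resolve_left ha.ne', (mul_eq_zero.1 h2).resolve_left hb.ne']
  simp

/-- The setting: an invariant character with exactly two characters over it. -/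
structure Pair (θ : C → ℂ) (χ₁ χ₂ : T → ℂ) (e₁ e₂ : ℕ) : Prop where
  hθ : Cfsg.IsIrrCharacter C θ
  inv : ∀ g : T, conjBy C θ g = θ
  h₁ : Cfsg.IsIrrCharacter T χ₁
  h₂ : Cfsg.IsIrrCharacter T χ₂
  ne : χ₁ ≠ χ₂
  res₁ : (fun n : C => χ₁ n) = (e₁ : ℂ) • θ
  res₂ : (fun n : C => χ₂ n) = (e₂ : ℂ) • θ
  pos₁ : 0 < e₁
  pos₂ : 0 < e₂
  only : ∀ ψ : T → ℂ, Cfsg.IsIrrCharacter T ψ →
    Cfsg.classInner (fun n : C => ψ n) θ ≠ 0 → ψ = χ₁ ∨ ψ = χ₂

variable {C} {θ : C → ℂ} {χ₁ χ₂ : T → ℂ} {e₁ e₂ : ℕ} (P : Pair C θ χ₁ χ₂ e₁ e₂)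
include P

theorem Pair.symm : Pair C θ χ₂ χ₁ e₂ e₁ :=
  ⟨P.hθ, P.inv, P.h₂, P.h₁, P.ne.symm, P.res₂, P.res₁, P.pos₂, P.pos₁,
    fun ψ hψ h => (P.only ψ hψ h).symm⟩

theorem Pair.indFun_eq : Cfsg.indFun C θ = (e₁ : ℂ) • χ₁ + (e₂ : ℂ) • χ₂ := by
  have hcf₁ := isClassFunction_of_isIrr P.h₁
  have hcf₂ := isClassFunction_of_isIrr P.h₂
  refine classFunction_ext (isClassFunction_indFun C θ) (fun g h => ?_) fun ψ => ?_
  · simp [hcf₁ g h, hcf₂ g h]
  rw [classInner_indFun C θ (isClassFunction_of_isIrr ψ.2), classInner_add_left,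
    classInner_smul_left, classInner_smul_left]
  by_cases h₁ : (ψ : T → ℂ) = χ₁
  · rw [h₁, P.res₁, classInner_smul_right, classInner_isIrr_self P.hθ,
      classInner_isIrr_self P.h₁, classInner_isIrr_ne P.h₂ P.h₁ P.ne.symm, Complex.conj_natCast]
    ring
  by_cases h₂ : (ψ : T → ℂ) = χ₂
  · rw [h₂, P.res₂, classInner_smul_right, classInner_isIrr_self P.hθ,
      classInner_isIrr_self P.h₂, classInner_isIrr_ne P.h₁ P.h₂ P.ne, Complex.conj_natCast]
    ring
  rw [classInner_isIrr_ne P.h₁ ψ.2 (Ne.symm h₁), classInner_isIrr_ne P.h₂ ψ.2 (Ne.symm h₂)]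
  by_contra hne
  simp only [mul_zero, add_zero] at hne
  refine (P.only ψ ψ.2 ?_).elim h₁ h₂
  intro h0
  exact hne (by rw [classInner_conj_symm, h0, map_zero])

/-- The two characters are proportional off `C`. -/
theorem Pair.relation {g : T} (hg : g ∉ C) : (e₁ : ℂ) * χ₁ g + e₂ * χ₂ g = 0 := by
  have h := congrFun P.indFun_eq g
  rw [indFun_normal_eq_zero C θ hg] at h
  exact h.symm

theorem Pair.sum_sq : e₁ ^ 2 + e₂ ^ 2 = C.index := by
  have h := congrFun P.indFun_eq 1
  have h₁ : χ₁ 1 = e₁ * θ 1 := congrFun P.res₁ (1 : C)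
  have h₂ : χ₂ 1 = e₂ * θ 1 := congrFun P.res₂ (1 : C)
  rw [indFun_one, Pi.add_apply, Pi.smul_apply, Pi.smul_apply, h₁, h₂, smul_eq_mul, smul_eq_mul] at h
  have h' : (C.index : ℂ) = (e₁ : ℂ) ^ 2 + (e₂ : ℂ) ^ 2 :=
    mul_right_cancel₀ (irr_one_ne_zero P.hθ) (by linear_combination h)
  exact_mod_cast h'.symm

/-- Over the quotient, `χ₁ β` is a combination of `χ₁` and `χ₂`. -/
theorem Pair.inner_mul_eq_zero (β : Cfsg.IrrCharacter (T ⧸ C)) {ψ : T → ℂ}
    (hψ : Cfsg.IsIrrCharacter T ψ) (n₁ : ψ ≠ χ₁) (n₂ : ψ ≠ χ₂) :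
    Cfsg.classInner (Gallagher.prodInfl C χ₁ (β : T ⧸ C → ℂ)) ψ = 0 := by
  have hsum : (e₁ : ℂ) • Gallagher.prodInfl C χ₁ (β : T ⧸ C → ℂ) +
      (e₂ : ℂ) • Gallagher.prodInfl C χ₂ (β : T ⧸ C → ℂ) =
      (β : T ⧸ C → ℂ) 1 • ((e₁ : ℂ) • χ₁ + (e₂ : ℂ) • χ₂) := by
    funext g
    simp only [Pi.add_apply, Pi.smul_apply, smul_eq_mul, Gallagher.prodInfl]
    by_cases hg : g ∈ C
    · rw [(QuotientGroup.eq_one_iff g).2 hg]; ring
    · linear_combination ((β : T ⧸ C → ℂ) g - (β : T ⧸ C → ℂ) 1) * P.relation hg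
  have h := congrArg (fun f => Cfsg.classInner f ψ) hsum
  simp only [classInner_add_left, classInner_smul_left, classInner_isIrr_ne P.h₁ hψ n₁.symm,
    classInner_isIrr_ne P.h₂ hψ n₂.symm, mul_zero, add_zero] at h
  exact (nat_eq_zero_of_comb P.pos₁ P.pos₂
    (classInner_character_irr (Gallagher.isCharacter_prodInfl C (isCharacter_of_isIrr P.h₁)
      (isCharacter_of_isIrr β.2)) hψ)
    (classInner_character_irr (Gallagher.isCharacter_prodInfl C (isCharacter_of_isIrr P.h₂)
      (isCharacter_of_isIrr β.2)) hψ) h).1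

/-- Multiplying `χ₁` by a class function of the quotient stays in the span of `χ₁`, `χ₂`. -/
theorem Pair.mul_classFun {f : T ⧸ C → ℂ} (hf : Cfsg.IsClassFunction (T ⧸ C) f) :
    ∃ a b : ℂ, ∀ g : T, χ₁ g * f g = a * χ₁ g + b * χ₂ g := by
  haveI := Fintype.ofFinite (T ⧸ C)
  let F : T → ℂ := Gallagher.prodInfl C χ₁ f
  have hFcl : Cfsg.IsClassFunction T F := fun g h => by
    show χ₁ (h * g * h⁻¹) * f _ = χ₁ g * f g
    rw [isClassFunction_of_isIrr P.h₁ g h, QuotientGroup.mk_mul, QuotientGroup.mk_mul,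
      QuotientGroup.mk_inv, hf]
  refine ⟨Cfsg.classInner F χ₁, Cfsg.classInner F χ₂, fun g => ?_⟩
  have hzero : ∀ ψ : Cfsg.IrrCharacter T, (ψ : T → ℂ) ≠ χ₁ → (ψ : T → ℂ) ≠ χ₂ →
      Cfsg.classInner F (ψ : T → ℂ) = 0 := by
    intro ψ n₁ n₂
    have hF : F = ∑ β : Cfsg.IrrCharacter (T ⧸ C),
        Cfsg.classInner f (β : T ⧸ C → ℂ) • Gallagher.prodInfl C χ₁ (β : T ⧸ C → ℂ) := by
      funext x
      show χ₁ x * f x = _
      conv_lhs => rw [classFunction_expansion hf]
      simp only [Finset.sum_apply, Pi.smul_apply, smul_eq_mul, Gallagher.prodInfl, Finset.mul_sum]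
      exact Finset.sum_congr rfl fun β _ => by ring
    rw [hF, classInner_sum_left]
    exact Finset.sum_eq_zero fun β _ => by
      rw [classInner_smul_left, P.inner_mul_eq_zero β ψ.2 n₁ n₂, mul_zero]
  have h : F = Cfsg.classInner F χ₁ • χ₁ + Cfsg.classInner F χ₂ • χ₂ := by
    refine classFunction_ext hFcl (fun x y => ?_) fun ψ => ?_
    · simp [isClassFunction_of_isIrr P.h₁ x y, isClassFunction_of_isIrr P.h₂ x y]
    rw [classInner_add_left, classInner_smul_left, classInner_smul_left]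
    by_cases h₁ : (ψ : T → ℂ) = χ₁
    · rw [h₁, classInner_isIrr_self P.h₁, classInner_isIrr_ne P.h₂ P.h₁ P.ne.symm]; ring
    by_cases h₂ : (ψ : T → ℂ) = χ₂
    · rw [h₂, classInner_isIrr_self P.h₂, classInner_isIrr_ne P.h₁ P.h₂ P.ne]; ring
    rw [hzero ψ h₁ h₂, classInner_isIrr_ne P.h₁ ψ.2 (Ne.symm h₁),
      classInner_isIrr_ne P.h₂ ψ.2 (Ne.symm h₂)]
    ring
  exact congrFun h g

/-- The classes where `χ₁` does not vanish are conjugate. -/
theorem Pair.isConj_of_ne_zero {g g' : T} (hg : g ∉ C) (hg' : g' ∉ C) (hv : χ₁ g ≠ 0)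
    (hv' : χ₁ g' ≠ 0) : IsConj (g : T ⧸ C) (g' : T ⧸ C) := by
  classical
  by_contra hno
  let f : T ⧸ C → ℂ := fun q => if IsConj (g : T ⧸ C) q then 1 else 0
  have hf : Cfsg.IsClassFunction (T ⧸ C) f := by
    intro q r
    have hqr : IsConj q (r * q * r⁻¹) := isConj_iff.2 ⟨r, rfl⟩
    exact if_congr ⟨fun h => h.trans hqr.symm, fun h => h.trans hqr⟩ rfl rfl
  obtain ⟨a, b, hab⟩ := P.mul_classFun hf
  have he₂ : (e₂ : ℂ) ≠ 0 := Nat.cast_ne_zero.2 P.pos₂.ne'
  have key : ∀ x : T, x ∉ C → χ₁ x ≠ 0 → f x * e₂ = a * e₂ - b * e₁ := fun x hx hx0 =>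
    mul_left_cancel₀ hx0 (by linear_combination (e₂ : ℂ) * hab x + b * P.relation hx)
  have h1 := key g hg hv
  have h2 := key g' hg' hv'
  rw [show f g = 1 from if_pos (IsConj.refl _)] at h1
  rw [show f g' = 0 from if_neg hno, ← h1] at h2
  exact he₂ (by linear_combination -h2)

/-- `χ₁` does not vanish on the coset of an element with cyclic centralizer in the quotient. -/
theorem Pair.exists_ne_zero {g : T}
    (hcyc : IsCyclic (Subgroup.centralizer ({(g : T ⧸ C)} : Set (T ⧸ C)))) (hg : g ∉ C) :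
    ∃ n : C, χ₁ ((n : T) * g) ≠ 0 := by
  classical
  by_contra hall
  push Not at hall
  let H : Subgroup T := (Subgroup.centralizer ({(g : T ⧸ C)} : Set (T ⧸ C))).comap (QuotientGroup.mk' C)
  have hCH : C ≤ H := fun n hn => by
    show (n : T ⧸ C) ∈ Subgroup.centralizer ({(g : T ⧸ C)} : Set (T ⧸ C))
    rw [(QuotientGroup.eq_one_iff n).2 hn]
    exact one_mem _
  have hgH : g ∈ H := Subgroup.mem_centralizer_singleton_iff.2 rfl
  haveI : Fintype H := Fintype.ofFinite H
  let N : Subgroup H := C.subgroupOf H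
  haveI : N.Normal := (inferInstance : C.Normal).subgroupOf H
  haveI : Fintype N := Fintype.ofFinite N
  haveI hHN : IsCyclic (H ⧸ N) := by
    let π : H →* Subgroup.centralizer ({(g : T ⧸ C)} : Set (T ⧸ C)) :=
      { toFun := fun h => ⟨((h : T) : T ⧸ C), h.2⟩
        map_one' := Subtype.ext rfl
        map_mul' := fun a b => Subtype.ext rfl }
    have hker : N = π.ker := by
      ext h
      rw [MonoidHom.mem_ker, Subgroup.mem_subgroupOf]
      refine (QuotientGroup.eq_one_iff (h : T)).symm.trans ?_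
      exact ⟨fun e => Subtype.ext e, fun e => congrArg Subtype.val e⟩
    exact isCyclic_of_injective
      ((QuotientGroup.kerLift π).comp (QuotientGroup.quotientMulEquivOfEq hker).toMonoidHom)
      ((QuotientGroup.kerLift_injective π).comp (QuotientGroup.quotientMulEquivOfEq hker).injective)
  -- the extension
  let e : N ≃* C := Subgroup.subgroupOfEquivOfLe hCH
  have hθN : Cfsg.IsIrrCharacter N fun n => θ (e n) :=
    Characters.isIrr_comp e.toMonoidHom e.surjective P.hθ
  obtain ⟨φ, hφ, hres⟩ := CharactersDeep.ExtensionCriteria.extends_of_cyclic N hθN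
    (fun h n => by
      have := congrFun (P.inv (h : T)) (e n)
      exact this)
    hHN
  have hθN' : Cfsg.IsIrrCharacter N fun n : N => φ n := by
    rw [funext hres]; exact hθN
  -- characters of `T` are orthogonal to `φ` on the coset
  have horth : ∀ ψ : Cfsg.IrrCharacter T,
      ∑ n : N, (ψ : T → ℂ) (((n : H) : T) * g) * conj (φ ((n : H) * ⟨g, hgH⟩)) = 0 := by
    intro ψ
    by_cases hψ : Cfsg.classInner (fun n : C => (ψ : T → ℂ) n) θ = 0
    · haveI := Fintype.ofFinite (H ⧸ N)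
      have hΦ : Cfsg.IsCharacter H fun h : H => (ψ : T → ℂ) h :=
        isCharacter_restrict H (isCharacter_of_isIrr ψ.2)
      obtain ⟨f, hfcl, hf, hfi⟩ := Gallagher.exists_coset_sum N hφ
        (isClassFunction_of_isCharacter hΦ)
      have hzero : ∀ β : Cfsg.IrrCharacter (H ⧸ N),
          Cfsg.classInner (fun h : H => (ψ : T → ℂ) h)
            (Gallagher.prodInfl N φ (β : H ⧸ N → ℂ)) = 0 := by
        have h0 : Cfsg.classInner (fun h : H => (ψ : T → ℂ) h)
            (Cfsg.indFun N fun n : N => φ n) = 0 := by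
          rw [classInner_indFun_right N _ (isClassFunction_of_isCharacter hΦ)]
          rw [← hψ]
          simp only [Cfsg.classInner]
          rw [Nat.card_congr e.toEquiv]
          congr 1
          refine Fintype.sum_equiv e.toEquiv _ _ fun n => ?_
          rw [hres n]
          rfl
        rw [Gallagher.indFun_restrict N hφ, classInner_sum_right] at h0
        choose m hm using fun β : Cfsg.IrrCharacter (H ⧸ N) => classInner_characters hΦ
          (Gallagher.isCharacter_prodInfl N (isCharacter_of_isIrr hφ) (isCharacter_of_isIrr β.2))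
        choose d hd0 hd using fun β : Cfsg.IrrCharacter (H ⧸ N) => exists_degree_pos β.2
        simp only [classInner_smul_right, hd, hm, Complex.conj_natCast, ← Nat.cast_mul,
          ← Nat.cast_sum, Nat.cast_eq_zero, Finset.sum_eq_zero_iff, mul_eq_zero] at h0
        intro β
        rw [hm β, ((h0 β (Finset.mem_univ β)).resolve_left (hd0 β).ne'), Nat.cast_zero]
      have hf0 : f = fun _ => 0 := classFunction_ext hfcl (fun _ _ => rfl) fun β => by
        rw [hfi, hzero β, mul_zero]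
        exact (classInner_zero_left _).symm
      have := hf ⟨g, hgH⟩
      rw [hf0] at this
      exact this.symm
    · refine Finset.sum_eq_zero fun n _ => ?_
      have h0 := hall (e n)
      rcases P.only ψ ψ.2 hψ with h | h
      · rw [h, show ((n : H) : T) = ((e n : C) : T) from rfl, h0, zero_mul]
      · have hnot : ((n : H) : T) * g ∉ C := fun hm =>
          hg ((Subgroup.mul_mem_cancel_left C n.2).1 hm)
        have hrel := P.relation hnot
        rw [show ((n : H) : T) = ((e n : C) : T) from rfl, h0, mul_zero, zero_add] at hrel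
        rw [h, show ((n : H) : T) = ((e n : C) : T) from rfl,
          (mul_eq_zero.1 hrel).resolve_left (Nat.cast_ne_zero.2 P.pos₂.ne'), zero_mul]
  -- the class function spread from `φ` on the coset
  let F₀ : T → ℂ := fun z => if h : z * g⁻¹ ∈ C then
    φ (⟨z * g⁻¹, hCH h⟩ * ⟨g, hgH⟩) else 0
  let F : T → ℂ := fun z => ∑ t : T, F₀ (t * z * t⁻¹)
  have hF : Cfsg.IsClassFunction T F := fun z h =>
    Fintype.sum_equiv (Equiv.mulRight h) _ _ fun t => by
      simp only [Equiv.coe_mulRight]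
      congr 1
      group
  have hF0 : ∀ Φ : T → ℂ,
      ∑ z : T, F₀ z * Φ z = ∑ n : N, φ ((n : H) * ⟨g, hgH⟩) * Φ (((n : H) : T) * g) := by
    intro Φ
    rw [← Finset.sum_filter_of_ne (p := fun z => z * g⁻¹ ∈ C) fun z _ hz => by
      by_contra h
      exact hz (by simp [F₀, dif_neg h])]
    symm
    refine Finset.sum_bij (fun (n : N) _ => ((n : H) : T) * g) ?_ ?_ ?_ ?_
    · intro n _
      refine Finset.mem_filter.2 ⟨Finset.mem_univ _, ?_⟩
      rw [mul_inv_cancel_right]
      exact n.2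
    · intro a _ b _ hab
      exact Subtype.ext (Subtype.ext (mul_right_cancel hab))
    · intro z hz
      have hz' := (Finset.mem_filter.1 hz).2
      exact ⟨⟨⟨z * g⁻¹, hCH hz'⟩, hz'⟩, Finset.mem_univ _, by simp⟩
    · intro n _
      have hn : ((n : H) : T) * g * g⁻¹ ∈ C := by rw [mul_inv_cancel_right]; exact n.2
      simp only [F₀, dif_pos hn]
      congr 2
      exact Subtype.ext (by simp)
  have hFzero : F = fun _ => 0 := classFunction_ext hF (fun _ _ => rfl) fun ψ => by
    rw [show Cfsg.classInner (fun _ : T => (0 : ℂ)) (ψ : T → ℂ) = 0 from classInner_zero_left _]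
    simp only [Cfsg.classInner, F, Finset.sum_mul]
    rw [Finset.sum_comm, Finset.sum_eq_zero, mul_zero]
    intro t _
    rw [Fintype.sum_equiv (MulAut.conj t).toEquiv _ (fun z => F₀ z * conj ((ψ : T → ℂ) z)) fun z => by
      simp only [MulEquiv.toEquiv_eq_coe, MulEquiv.coe_toEquiv, MulAut.conj_apply,
        isClassFunction_of_isIrr ψ.2 z t]]
    rw [hF0]
    have := congrArg conj (horth ψ)
    rw [map_sum, map_zero] at this
    rw [← this]
    exact Finset.sum_congr rfl fun n _ => by rw [map_mul, Complex.conj_conj, mul_comm]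
  -- but it does not vanish
  have hval : ∀ n : N, φ ((n : H) * ⟨g, hgH⟩) = 0 := by
    intro n
    have hz := congrFun hFzero (((n : H) : T) * g)
    simp only [F] at hz
    have hterm : ∀ t : T, F₀ (t * (((n : H) : T) * g) * t⁻¹) =
        if t ∈ H then φ ((n : H) * ⟨g, hgH⟩) else 0 := by
      intro t
      have hiff : t * (((n : H) : T) * g) * t⁻¹ * g⁻¹ ∈ C ↔ t ∈ H := by
        rw [← QuotientGroup.eq_one_iff, Subgroup.mem_comap, QuotientGroup.mk'_apply,
          Subgroup.mem_centralizer_singleton_iff]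
        simp only [QuotientGroup.mk_mul, QuotientGroup.mk_inv,
          (QuotientGroup.eq_one_iff ((n : H) : T)).2 n.2, one_mul, mul_inv_eq_one,
          mul_inv_eq_iff_eq_mul]
      by_cases ht : t ∈ H
      · rw [if_pos ht]
        simp only [F₀, dif_pos (hiff.2 ht)]
        rw [← isClassFunction_of_isIrr hφ ((n : H) * ⟨g, hgH⟩) ⟨t, ht⟩]
        congr 1
        exact Subtype.ext (by simp [mul_assoc])
      · rw [if_neg ht]
        simp only [F₀, dif_neg (mt hiff.1 ht)]
    rw [Finset.sum_congr rfl fun t _ => hterm t, ← Finset.sum_filter, Finset.sum_const,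
      nsmul_eq_mul] at hz
    refine (mul_eq_zero.1 hz).resolve_left (Nat.cast_ne_zero.2 (Finset.card_pos.2 ⟨1, ?_⟩).ne')
    simp
  have hsum := Gallagher.sum_coset_mul_conj N hφ hθN' ⟨g, hgH⟩
  rw [Finset.sum_eq_zero fun n _ => by rw [hval n, zero_mul]] at hsum
  exact Nat.cast_ne_zero.2 Nat.card_pos.ne' hsum.symm

/-- The sum of `|χ₁| ^ 2` over `C`. -/
theorem Pair.sum_sub_mul_conj :
    ∑ n : C, χ₁ n * conj (χ₁ n) = (e₁ : ℂ) ^ 2 * Nat.card C := by
  have h := classInner_isIrr_self P.hθ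
  simp only [Cfsg.classInner] at h
  rw [Finset.sum_congr rfl (g := fun n => (e₁ : ℂ) ^ 2 * (θ n * conj (θ n))) fun n _ => by
    rw [show χ₁ n = e₁ * θ n from congrFun P.res₁ n, map_mul, Complex.conj_natCast]; ring,
    ← Finset.mul_sum]
  rw [inv_mul_eq_iff_eq_mul₀ (natCard_ne_zero (G := C))] at h
  rw [h, mul_one]

/-- The whole situation. -/
theorem Pair.twisted : ∃ y : T ⧸ C, y ≠ 1 ∧
    (∀ x : T ⧸ C, x ≠ 1 → IsCyclic (Subgroup.centralizer ({x} : Set (T ⧸ C))) → IsConj y x) ∧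
    ∃ d u w : ℕ, d ≠ 0 ∧ u ≠ 0 ∧ w ≠ 0 ∧ Nat.card (T ⧸ C) = d ^ 2 * (u ^ 2 + w ^ 2) ∧
      (u ^ 2 + w ^ 2) ∣ Nat.card (Subgroup.centralizer ({y} : Set (T ⧸ C))) := by
  classical
  haveI := Fintype.ofFinite (T ⧸ C)
  have hsq := P.sum_sq
  have hindex : C.index = Nat.card (T ⧸ C) := Subgroup.index_eq_card C
  have hcardT : (Nat.card T : ℂ) = C.index * Nat.card C := by
    rw [← Nat.cast_mul, Subgroup.index_mul_card]
  -- a class where `χ₁` lives
  obtain ⟨g₀, hg₀, hv₀⟩ : ∃ g : T, g ∉ C ∧ χ₁ g ≠ 0 := by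
    by_contra hall
    push Not at hall
    have h := classInner_isIrr_self P.h₁
    simp only [Cfsg.classInner] at h
    rw [← Finset.sum_filter_of_ne (p := fun z => z ∈ C) fun z _ hz => by
        by_contra hzC
        exact hz (by rw [hall z hzC, zero_mul]),
      Finset.sum_subtype (p := fun z => z ∈ C) (F := inferInstanceAs (Fintype C)) _ (by simp)] at h
    rw [P.sum_sub_mul_conj, inv_mul_eq_iff_eq_mul₀ (natCard_ne_zero (G := T)), hcardT, mul_one,
      mul_left_inj' (natCard_ne_zero (G := C))] at h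
    have h1 : e₁ ^ 2 = C.index := by exact_mod_cast h
    have h2 : 0 < e₂ ^ 2 := pow_pos P.pos₂ 2
    omega
  refine ⟨(g₀ : T ⧸ C), fun h => hg₀ ((QuotientGroup.eq_one_iff g₀).1 h), ?_, ?_⟩
  · intro x hx hcyc
    obtain ⟨g, rfl⟩ := QuotientGroup.mk_surjective x
    have hg : g ∉ C := fun h => hx ((QuotientGroup.eq_one_iff g).2 h)
    obtain ⟨n, hn⟩ := P.exists_ne_zero hcyc hg
    have hng : (n : T) * g ∉ C := fun h => hg ((Subgroup.mul_mem_cancel_left C n.2).1 h)
    have := P.isConj_of_ne_zero hg₀ hng hv₀ hn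
    rwa [QuotientGroup.mk_mul, (QuotientGroup.eq_one_iff (n : T)).2 n.2, one_mul] at this
  -- the divisibility
  set y : T ⧸ C := (g₀ : T ⧸ C) with hy
  set c := Nat.card (Subgroup.centralizer ({y} : Set (T ⧸ C))) with hc
  have key : ∀ {χ₁' χ₂' : T → ℂ} {a b : ℕ}, Pair C θ χ₁' χ₂' a b → χ₁' g₀ ≠ 0 →
      Nat.card (T ⧸ C) ∣ c * b ^ 2 := by
    intro χ χ' a b Q hv
    obtain ⟨f, hfcl, hf, hfi⟩ :=
      Gallagher.exists_coset_sum C Q.h₁ (isClassFunction_of_isIrr Q.h₁)
    -- integral values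
    have hint : IsIntegral ℤ (f y / Nat.card C) := by
      rw [classFunction_expansion hfcl, Finset.sum_apply, Finset.sum_div]
      refine IsIntegral.sum _ fun β _ => ?_
      obtain ⟨m, hm⟩ := classInner_characters (isCharacter_of_isIrr Q.h₁)
        (Gallagher.isCharacter_prodInfl C (isCharacter_of_isIrr Q.h₁) (isCharacter_of_isIrr β.2))
      rw [Pi.smul_apply, smul_eq_mul, hfi, hm, mul_assoc,
        mul_div_cancel_left₀ _ (natCard_ne_zero (G := C))]
      exact (isIntegral_natCast m).mul (character_isIntegral (isCharacter_of_isIrr β.2) y)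
    -- the value at `y`
    have hoff : ∀ q : T ⧸ C, q ≠ 1 → ¬ IsConj y q → f q = 0 := by
      intro q hq hnc
      obtain ⟨x, rfl⟩ := QuotientGroup.mk_surjective q
      rw [hf]
      refine Finset.sum_eq_zero fun n _ => ?_
      have hxC : x ∉ C := fun h => hq ((QuotientGroup.eq_one_iff x).2 h)
      by_contra h0
      refine hnc ?_
      have := Q.isConj_of_ne_zero hg₀ (fun h => hxC ((Subgroup.mul_mem_cancel_left C n.2).1 h)) hv
        (left_ne_zero_of_mul h0)
      rwa [QuotientGroup.mk_mul, (QuotientGroup.eq_one_iff (n : T)).2 n.2, one_mul] at this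
    have hone : f 1 = (a : ℂ) ^ 2 * Nat.card C := by
      rw [← Q.sum_sub_mul_conj, ← QuotientGroup.mk_one, hf]
      simp
    have htot : ∑ q : T ⧸ C, f q = Nat.card T := by
      have hβ := hfi (fun _ => 1)
      have h1 : Gallagher.prodInfl C χ (fun _ => 1) = χ := funext fun z => mul_one _
      rw [h1, classInner_isIrr_self Q.h₁, mul_one] at hβ
      simp only [Cfsg.classInner, map_one, mul_one] at hβ
      rw [inv_mul_eq_iff_eq_mul₀ (natCard_ne_zero (G := T ⧸ C))] at hβ
      rw [hβ, hcardT, hindex]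
    have hK : ∑ q : T ⧸ C, f q = f 1 + (Nat.card {q : T ⧸ C // IsConj y q} : ℂ) * f y := by
      rw [← Finset.add_sum_erase _ _ (Finset.mem_univ (1 : T ⧸ C)),
        ← Finset.sum_filter_of_ne (p := fun q => IsConj y q) fun q hq hne => by
          by_contra h
          exact hne (hoff q (Finset.ne_of_mem_erase hq) h),
        Finset.sum_congr rfl (g := fun _ => f y) fun q hq => by
          obtain ⟨r, rfl⟩ := isConj_iff.1 (Finset.mem_filter.1 hq).2
          exact hfcl y r,
        Finset.sum_const, nsmul_eq_mul, Nat.card_eq_fintype_card, Fintype.card_subtype,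
        Finset.filter_erase, Finset.erase_eq_of_notMem]
      simp only [Finset.mem_filter, Finset.mem_univ, true_and]
      intro h
      exact hg₀ ((QuotientGroup.eq_one_iff g₀).1 (isConj_one_left.1 h))
    rw [hK, hone, hcardT, ← Q.sum_sq] at htot
    push_cast at htot
    have hidx : Nat.card {q : T ⧸ C // IsConj y q} * c = Nat.card (T ⧸ C) := by
      rw [hc, ← Subgroup.index_mul_card (Subgroup.centralizer ({y} : Set (T ⧸ C)))]
      congr 1
      exact natCard_conj y
    refine dvd_of_isIntegral_div Nat.card_pos.ne' ?_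
    have hk0 : (Nat.card {q : T ⧸ C // IsConj y q} : ℂ) ≠ 0 := fun h => by
      rw [Nat.cast_eq_zero] at h
      rw [h, zero_mul] at hidx
      exact Nat.card_pos.ne' hidx.symm
    have hcn : (c : ℂ) ≠ 0 := Nat.cast_ne_zero.2 Nat.card_pos.ne'
    convert hint using 1
    rw [← hidx]
    push_cast
    field_simp
    linear_combination -htot
  have hv₀' : χ₂ g₀ ≠ 0 := fun h => hv₀ (by
    have := P.relation hg₀
    rw [h, mul_zero, add_zero] at this
    exact (mul_eq_zero.1 this).resolve_left (Nat.cast_ne_zero.2 P.pos₁.ne'))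
  have hd₁ := key P hv₀
  have hd₂ := key P.symm hv₀'
  obtain ⟨u, w, huw, hu, hw⟩ :=
    Nat.exists_coprime e₁ e₂
  set d := Nat.gcd e₁ e₂ with hd
  have hd0 : d ≠ 0 := (Nat.gcd_pos_of_pos_left e₂ P.pos₁).ne'
  refine ⟨d, u, w, hd0, fun h => P.pos₁.ne' (by rw [hu, h, zero_mul]),
    fun h => P.pos₂.ne' (by rw [hw, h, zero_mul]), ?_, ?_⟩
  · rw [← hindex, ← hsq, hu, hw]; ring
  · have h := Nat.dvd_gcd hd₂ hd₁
    rw [Nat.gcd_mul_left, Nat.pow_gcd_pow, ← hd, ← hindex, ← hsq, hu, hw,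
      show (u * d) ^ 2 + (w * d) ^ 2 = (u ^ 2 + w ^ 2) * d ^ 2 by ring] at h
    exact Nat.dvd_of_mul_dvd_mul_right (pow_pos (Nat.pos_of_ne_zero hd0) 2) h

end CfsgLib.HeightZeroThree
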